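import Cfsg.Agent.Spor3T.M24PairAut

/-!
A group with a quasisimple subgroup of index two over Fi22 is the automorphism group modulo the centre.
-/

set_option autoImplicit false
set_option linter.unusedSectionVars false
set_option linter.style.haveILetI false

namespace CfsgLib.FiLarge.Cent

open scoped commutatorElement

/-- The quotient by the centre of the quasisimple subgroup. -/
theorem aut_quot {G : Type*} [Group G] [Finite G] {C K : Subgroup G} {t : G} (hle : K ≤ C) (hjK : t ∈ K)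
    (hidx : (K.subgroupOf C).index = 2) (hcl : ∀ g ∈ C, (∀ k ∈ K, g * k = k * g) → g ∈ K)
    (hcen : (Subgroup.center ↥K).map K.subtype = Subgroup.zpowers t) (hqs : Cfsg.IsQuasisimple ↥K)
    (e : ↥K ⧸ Subgroup.center ↥K ≃* Cfsg.Spor.Fi22) [hn : ((Subgroup.zpowers t).subgroupOf C).Normal] :
    Nonempty (↥C ⧸ (Subgroup.zpowers t).subgroupOf C ≃* MulAut Cfsg.Spor.Fi22) := by
  set K' := K.subgroupOf C with hK'
  haveI : K'.Normal := Subgroup.normal_of_index_eq_two hidx
  set Z := (Subgroup.zpowers t).subgroupOf C with hZ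
  have hV : ∀ v ∈ Subgroup.zpowers t, v ∈ K ∧ ∀ k ∈ K, Commute k v := by
    intro v hv
    rw [← hcen] at hv
    obtain ⟨v, hv, rfl⟩ := hv
    exact ⟨v.2, fun k hk => congrArg Subtype.val (Subgroup.mem_center_iff.1 hv ⟨k, hk⟩)⟩
  -- conjugation on the pair centraliser
  have hconj : ∀ c : ↥C, ∀ k ∈ K, (c : G) * k * (c : G)⁻¹ ∈ K := fun c k hk => by
    have := (inferInstance : K'.Normal).conj_mem ⟨k, hle hk⟩ hk c
    rwa [hK', Subgroup.mem_subgroupOf] at this
  let act : ↥C →* MulAut ↥K := MonoidHom.mk'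
    (fun c => MulEquiv.mk' ⟨fun k => ⟨(c : G) * k * (c : G)⁻¹, hconj c k k.2⟩,
        fun k => ⟨((c⁻¹ : ↥C) : G) * k * ((c⁻¹ : ↥C) : G)⁻¹, hconj c⁻¹ k k.2⟩,
        fun k => Subtype.ext (by simp [mul_assoc]), fun k => Subtype.ext (by simp [mul_assoc])⟩
      fun k k' => Subtype.ext (by simp [mul_assoc]))
    fun c c' => MulEquiv.ext fun k => Subtype.ext (by
      show ((c * c' : ↥C) : G) * k * ((c * c' : ↥C) : G)⁻¹ = c * ((c' : G) * k * (c' : G)⁻¹) * (c : G)⁻¹
      simp [mul_assoc])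
  have hchar : ∀ φ : MulAut ↥K, (Subgroup.center ↥K).map φ.toMonoidHom = Subgroup.center ↥K := fun φ =>
    (Subgroup.characteristic_iff_map_eq.1 inferInstance φ)
  let bar : MulAut ↥K →* MulAut (↥K ⧸ Subgroup.center ↥K) := MonoidHom.mk'
    (fun φ => QuotientGroup.congr _ _ φ (hchar φ))
    fun φ φ' => MulEquiv.ext fun q => by
      obtain ⟨k, rfl⟩ := QuotientGroup.mk_surjective q
      rfl
  let Φ : ↥C →* MulAut Cfsg.Spor.Fi22 := ((MulAut.congr e).toMonoidHom.comp bar).comp act
  have hker : Φ.ker = Z := by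
    ext c
    rw [MonoidHom.mem_ker, hZ, Subgroup.mem_subgroupOf]
    constructor
    · intro hc
      have h1 : bar (act c) = 1 := (MulAut.congr e).injective (by rw [map_one]; exact hc)
      have hcom : ∀ k ∈ K, (c : G) * k * (c : G)⁻¹ * k⁻¹ ∈ Subgroup.zpowers t := by
        intro k hk
        have h2 : (QuotientGroup.mk (act c ⟨k, hk⟩) : ↥K ⧸ Subgroup.center ↥K) =
            QuotientGroup.mk ⟨k, hk⟩ :=
          congrArg (fun φ : MulAut (↥K ⧸ Subgroup.center ↥K) => φ (QuotientGroup.mk (⟨k, hk⟩ : ↥K))) h1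
        have hh := ((Subgroup.Normal.mem_comm_iff inferInstance).1 (QuotientGroup.eq.1 h2.symm))
        rw [← hcen]
        exact ⟨_, hh, rfl⟩
      let φ : ↥K →* G := MonoidHom.mk' (fun k => (c : G) * k * (c : G)⁻¹ * (k : G)⁻¹) fun k k' => by
        have h2 := (hV _ (hcom k' k'.2)).2 (k : G)⁻¹ (inv_mem k.2)
        simp only [Subgroup.coe_mul]
        calc (c : G) * (k * k') * (c : G)⁻¹ * ((k : G) * k')⁻¹ =
              (c : G) * k * (c : G)⁻¹ * (((c : G) * k' * (c : G)⁻¹ * (k' : G)⁻¹) * (k : G)⁻¹) := by group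
          _ = (c : G) * k * (c : G)⁻¹ * ((k : G)⁻¹ * ((c : G) * k' * (c : G)⁻¹ * (k' : G)⁻¹)) := by rw [h2.eq]
          _ = _ := by group
      have hφ : ∀ k, φ k = 1 := by
        intro k
        refine MonoidHom.mem_ker.1 (?_ : k ∈ φ.ker)
        have hle' : commutator ↥K ≤ φ.ker := by
          rw [commutator_def, Subgroup.commutator_le]
          intro u _ v _
          rw [MonoidHom.mem_ker, map_commutatorElement, commutatorElement_eq_one_iff_commute]
          exact (hV _ (hcom v v.2)).2 (φ u) ((hV _ (hcom u u.2)).1)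
        exact hle' (by rw [hqs.1.commutator_eq_top]; exact Subgroup.mem_top k)
      have hcK : (c : G) ∈ K := hcl c c.2 fun k hk => mul_inv_eq_iff_eq_mul.1 (mul_inv_eq_one.1 (hφ ⟨k, hk⟩))
      rw [← hcen]
      refine ⟨⟨c, hcK⟩, Subgroup.mem_center_iff.2 fun k => Subtype.ext ?_, rfl⟩
      exact (mul_inv_eq_iff_eq_mul.1 (mul_inv_eq_one.1 (hφ k))).symm
    · intro hc
      have h2 : act c = 1 := MulEquiv.ext fun k => Subtype.ext (by
        show (c : G) * k * (c : G)⁻¹ = k
        rw [← ((hV _ hc).2 k k.2).eq, mul_inv_cancel_right])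
      show (MulAut.congr e) (bar (act c)) = 1
      rw [h2, map_one, map_one]
  have hfinF : Finite Cfsg.Spor.Fi22 := Finite.of_equiv _ e.toEquiv
  have hinj : Function.Injective (QuotientGroup.kerLift Φ) := QuotientGroup.kerLift_injective Φ
  let q : ↥C ⧸ Z ≃* ↥C ⧸ Φ.ker := QuotientGroup.quotientMulEquivOfEq hker.symm
  have hcard : Nat.card (↥C ⧸ Z) = Nat.card (MulAut Cfsg.Spor.Fi22) := by
    have h1 : Nat.card (↥C ⧸ Z) * Nat.card ↥Z = Nat.card ↥C :=
      (Subgroup.card_eq_card_quotient_mul_card_subgroup Z).symm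
    have h2 : Nat.card ↥K' * 2 = Nat.card ↥C := hidx ▸ K'.card_mul_index
    have h3 := Subgroup.card_eq_card_quotient_mul_card_subgroup (Subgroup.center ↥K)
    rw [Nat.card_congr e.toEquiv] at h3
    have h4 : Nat.card ↥(Subgroup.center ↥K) = Nat.card ↥Z := by
      rw [hZ, Nat.card_congr (Subgroup.subgroupOfEquivOfLe ((Subgroup.zpowers_le).2 (hle hjK))).toEquiv, ← hcen,
        Subgroup.card_map_of_injective K.subtype_injective]
    have h5 : Nat.card ↥K' = Nat.card ↥K := Nat.card_congr (Subgroup.subgroupOfEquivOfLe hle).toEquiv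
    rw [CfsgLib.ThreeT.Prod.card_mulAut_fi22]
    refine Nat.eq_of_mul_eq_mul_right (show 0 < Nat.card ↥Z from Nat.card_pos) ?_
    rw [h1, ← h2, h5, h3, h4]
    ring
  have hb' : Function.Bijective ((QuotientGroup.kerLift Φ).comp q.toMonoidHom) :=
    (Nat.bijective_iff_injective_and_card _).2 ⟨hinj.comp q.injective, hcard⟩
  exact ⟨MulEquiv.ofBijective _ hb'⟩

end CfsgLib.FiLarge.Cent
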