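import Cfsg.Agent.FiLarge.Cent.Index
import Cfsg.Agent.FiLarge.Cent.AutQuot
import Cfsg.Agent.Invol.GLStdInvolution
import Cfsg.Agent.S1713

/-!
The centraliser of a small involution modulo the involution is the automorphism group of Fi22.
-/

set_option autoImplicit false
set_option quotPrecheck false
set_option maxRecDepth 100000
set_option linter.style.haveILetI false
set_option linter.unusedSectionVars false

namespace CfsgLib.FiLarge.Cent

open CfsgLib Subgroup CfsgLib.FiLarge.Thom CfsgLib.FiLarge.U62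
open CfsgLib.FiLarge.Dat (val)
open scoped commutatorElement

variable {G : Type*} [Group G] [Finite G] {z : G} {Q : Subgroup (centralizer ({z} : Set G))} [Q.Normal]
  {D : Dat z Q} (X : Ctx D)

/-- The even part of the centraliser. -/
noncomputable def M1 : Subgroup G := (eps X).ker.map (Mt X).subtype

theorem M1_le : M1 X ≤ Mt X := map_subtype_le _

theorem mem_M1 {g : G} : g ∈ M1 X ↔ ∃ h : g ∈ Mt X, eps X ⟨g, h⟩ = 1 := by
  constructor
  · rintro ⟨k, hk, rfl⟩; exact ⟨k.2, hk⟩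
  · rintro ⟨h, hk⟩; exact ⟨⟨g, h⟩, hk, rfl⟩

theorem C_le_M1 : X.C ≤ M1 X := fun _ hg => (mem_M1 X).2 ⟨C_le_Mt X hg, eps_C X hg⟩

theorem tt_M1 : tt X ∈ M1 X := C_le_M1 X (X.E_le_C X.ab_E)

theorem ee_M1 : ee X ∈ M1 X := C_le_M1 X (X.E_le_C X.bc_E)

theorem M1_subgroupOf : (M1 X).subgroupOf (Mt X) = (eps X).ker :=
  comap_map_eq_self_of_injective (Mt X).subtype_injective _

theorem index_M1 : ((M1 X).subgroupOf (Mt X)).index = 2 := by rw [M1_subgroupOf, index_eps]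

theorem M1_cent {g : G} (hg : g ∈ Mt X) (h : ∀ k ∈ M1 X, g * k = k * g) : g ∈ M1 X :=
  C_le_M1 X (X.mem_C.2 ⟨(mem_Mt X).1 hg, h _ (ee_M1 X)⟩)

theorem ee_ne : ee X ≠ 1 ∧ ee X ≠ tt X := by
  obtain ⟨nab, nbc, nac⟩ := abc_ne
  refine ⟨((mem_nS D).1 (X.L.mem _ _ nbc)).2.1, fun e => ((mem_nS D).1 (X.L.mem _ _ nac)).2.1 ?_⟩
  rw [← tee, e, X.lab_mul_self]

theorem zpowers_tt {g : G} : g ∈ zpowers (tt X) ↔ g = 1 ∨ g = tt X := by
  constructor
  · intro h
    obtain ⟨i, rfl⟩ := mem_zpowers_iff.1 h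
    rcases Int.even_or_odd' i with ⟨j, rfl | rfl⟩
    · left; rw [zpow_mul, zpow_ofNat, pow_two, X.lab_mul_self, one_zpow]
    · right; rw [zpow_add, zpow_mul, zpow_ofNat, pow_two, X.lab_mul_self, one_zpow, one_mul, zpow_one]
  · rintro (rfl | rfl)
    exacts [one_mem _, mem_zpowers _]

/-- The involution in the even part. -/
noncomputable abbrev Z1 : Subgroup ↥(M1 X) := (zpowers (tt X)).subgroupOf (M1 X)

theorem Z1_le : Z1 X ≤ Subgroup.center ↥(M1 X) := fun v hv => mem_center_iff.2 fun k => Subtype.ext (by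
  show (k : G) * v = v * k
  rcases (zpowers_tt X).1 (mem_subgroupOf.1 hv) with e | e <;> rw [e]
  · rw [mul_one, one_mul]
  · exact ((mem_Mt X).1 (M1_le X k.2)).eq)

instance Z1_normal : (Z1 X).Normal := ⟨fun n hn k => by
  have e : k * n * k⁻¹ = n := mul_inv_eq_iff_eq_mul.2 (mem_center_iff.1 (Z1_le X hn) k)
  rw [e]; exact hn⟩

/-- The image of the second involution. -/
noncomputable abbrev de : ↥(M1 X) ⧸ Z1 X := QuotientGroup.mk' (Z1 X) ⟨ee X, ee_M1 X⟩

theorem de_comm {g : ↥(M1 X)} (h : Commute (QuotientGroup.mk' (Z1 X) g) (de X)) : (g : G) ∈ X.C := by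
  have h' : QuotientGroup.mk' (Z1 X) (g * ⟨ee X, ee_M1 X⟩) = QuotientGroup.mk' (Z1 X) (⟨ee X, ee_M1 X⟩ * g) := by
    rw [map_mul, map_mul]; exact h.eq
  have hu := mem_subgroupOf.1 (QuotientGroup.eq.1 h')
  obtain ⟨hM, he⟩ := (mem_M1 X).1 g.2
  refine cent_even X (g := ⟨g, hM⟩) he ?_
  show (g : G) * ee X * (g : G)⁻¹ = ee X ∨ (g : G) * ee X * (g : G)⁻¹ = tt X * ee X
  have hu' : ((g : G) * ee X)⁻¹ * (ee X * g) = 1 ∨ ((g : G) * ee X)⁻¹ * (ee X * g) = tt X := by
    simpa using (zpowers_tt X).1 hu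
  rcases hu' with e | e
  · left
    rw [inv_mul_eq_one] at e
    rw [e, mul_inv_cancel_right]
  · right
    rw [inv_mul_eq_iff_eq_mul] at e
    have e2 : (g : G) * ee X = ee X * g * tt X := by rw [e, mul_assoc _ (tt X), X.lab_mul_self, mul_one]
    rw [e2, mul_assoc (ee X) (g : G) (tt X), ((mem_Mt X).1 hM).eq, ← mul_assoc, mul_inv_cancel_right]
    exact (X.comm (X.lab_A0 _ _) (X.lab_A0 _ _)).eq

theorem orderOf_de : orderOf (de X) = 2 := by
  refine orderOf_eq_prime ?_ fun e => ?_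
  · rw [pow_two, ← map_mul, show (⟨ee X, ee_M1 X⟩ : ↥(M1 X)) * ⟨ee X, ee_M1 X⟩ = 1 from
      Subtype.ext (X.lab_mul_self _ _), map_one]
  · rcases (zpowers_tt X).1 (mem_subgroupOf.1 ((QuotientGroup.eq_one_iff _).1 e)) with h | h
    exacts [(ee_ne X).1 h, (ee_ne X).2 h]

/-- The map of the centraliser of the four-group onto that of the image. -/
noncomputable def cmap : ↥X.C →* ↥(centralizer ({de X} : Set (↥(M1 X) ⧸ Z1 X))) :=
  ((QuotientGroup.mk' (Z1 X)).comp (Subgroup.inclusion (C_le_M1 X))).codRestrict _ fun k =>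
    mem_centralizer_singleton_iff.2 ((show Commute (Subgroup.inclusion (C_le_M1 X) k) ⟨ee X, ee_M1 X⟩ from
      Subtype.ext (X.C_comm k.2 X.bc_E).eq).map (QuotientGroup.mk' (Z1 X))).eq

theorem cmap_surj : Function.Surjective (cmap X) := by
  rintro ⟨q, hq⟩
  obtain ⟨g, rfl⟩ := QuotientGroup.mk'_surjective (Z1 X) q
  exact ⟨⟨g, de_comm X (mem_centralizer_singleton_iff.1 hq)⟩, rfl⟩

theorem cmap_ker : (cmap X).ker ≤ Subgroup.center ↥X.C := by
  intro k hk
  have h : QuotientGroup.mk' (Z1 X) (Subgroup.inclusion (C_le_M1 X) k) = 1 := congrArg Subtype.val hk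
  rw [QuotientGroup.mk'_apply, QuotientGroup.eq_one_iff, mem_subgroupOf] at h
  rw [X.center_C, mem_subgroupOf]
  rcases (zpowers_tt X).1 h with e | e
  · rw [show (k : G) = 1 from e]; exact one_mem _
  · rw [show (k : G) = tt X from e]; exact X.ab_E

theorem de_quasisimple : Cfsg.IsQuasisimple ↥(centralizer ({de X} : Set (↥(M1 X) ⧸ Z1 X))) :=
  GLStd.isQuasisimple_image (cmap X) (cmap_surj X) (cmap_ker X) X.quasisimple

theorem de_preimage :
    ((zpowers (de X)).subgroupOf (centralizer ({de X} : Set (↥(M1 X) ⧸ Z1 X)))).comap (cmap X) =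
      X.E.subgroupOf X.C := by
  ext k
  rw [mem_comap, mem_subgroupOf, mem_subgroupOf]
  show QuotientGroup.mk' (Z1 X) (Subgroup.inclusion (C_le_M1 X) k) ∈ zpowers (de X) ↔ _
  constructor
  · intro h
    have h2 : zpowers (de X) ≤ (X.E.subgroupOf (M1 X)).map (QuotientGroup.mk' (Z1 X)) :=
      zpowers_le.2 (mem_map_of_mem _ (mem_subgroupOf.2 X.bc_E))
    obtain ⟨s, hs, e⟩ := h2 h
    have hu := mem_subgroupOf.1 (QuotientGroup.eq.1 e)
    have hu' : (s : G)⁻¹ * (k : G) ∈ X.E := by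
      have hu2 : (s : G)⁻¹ * (k : G) ∈ zpowers (tt X) := by simpa using hu
      rcases (zpowers_tt X).1 hu2 with q | q <;> rw [q]
      exacts [one_mem _, X.ab_E]
    rw [show (k : G) = s * ((s : G)⁻¹ * k) by group]
    exact mul_mem (mem_subgroupOf.1 hs) hu'
  · intro h
    have hk : ∀ {v : G} (hv : v ∈ M1 X), Subgroup.inclusion (C_le_M1 X) k = ⟨v, hv⟩ ↔ (k : G) = v := fun {v} hv =>
      ⟨fun e => congrArg Subtype.val e, fun e => Subtype.ext e⟩
    have ht1 : QuotientGroup.mk' (Z1 X) ⟨tt X, tt_M1 X⟩ = 1 :=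
      (QuotientGroup.eq_one_iff _).2 (mem_subgroupOf.2 (mem_zpowers _))
    rcases X.mem_E.1 h with e | e | e | e
    · rw [(hk (one_mem _)).2 e, show (⟨1, one_mem _⟩ : ↥(M1 X)) = 1 from rfl, map_one]; exact one_mem _
    · rw [(hk (tt_M1 X)).2 e, ht1]; exact one_mem _
    · rw [(hk (ee_M1 X)).2 e]; exact mem_zpowers _
    · have hp : (k : G) = tt X * ee X := e.trans (tee X).symm
      rw [(hk (mul_mem (tt_M1 X) (ee_M1 X))).2 hp,
        show (⟨tt X * ee X, mul_mem (tt_M1 X) (ee_M1 X)⟩ : ↥(M1 X)) = ⟨tt X, tt_M1 X⟩ * ⟨ee X, ee_M1 X⟩ from rfl,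
        map_mul, ht1, one_mul]
      exact mem_zpowers _

theorem de_other : ∃ q : ↥(M1 X) ⧸ Z1 X, q * de X * q⁻¹ ∈ centralizer ({de X} : Set (↥(M1 X) ⧸ Z1 X)) ∧
    q * de X * q⁻¹ ≠ de X := by
  classical
  obtain ⟨nab, nbc, nac⟩ := abc_ne
  obtain ⟨x, -, hx⟩ := Finset.exists_mem_notMem_of_card_lt_card
    (show ({ptA, ptB, ptC} : Finset Cfsg.GolayPt).card < (Finset.univ : Finset Cfsg.GolayPt).card from
      lt_of_le_of_lt Finset.card_le_three (by rw [Finset.card_univ, Golay.card_golayPt]; norm_num))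
  obtain ⟨y, -, hy⟩ := Finset.exists_mem_notMem_of_card_lt_card
    (show ({ptA, ptB, ptC, x} : Finset Cfsg.GolayPt).card < (Finset.univ : Finset Cfsg.GolayPt).card from
      lt_of_le_of_lt Finset.card_le_four (by rw [Finset.card_univ, Golay.card_golayPt]; norm_num))
  simp only [Finset.mem_insert, Finset.mem_singleton, not_or] at hx hy
  obtain ⟨π, pA, pB, py, pC⟩ := move_four (a := ptA) (b := ptB) (c := y) (e := ptC) (a' := ptA) (b' := ptB)
    (c' := y) (e' := x)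
    (by simp [nab, Ne.symm hy.1, Ne.symm hy.2.1, nac, nbc, hy.2.2.1])
    (by simp [nab, Ne.symm hy.1, Ne.symm hy.2.1, Ne.symm hx.1, Ne.symm hx.2.1, hy.2.2.2])
  obtain ⟨h, hh, hl⟩ := exists_perm X pA pB
  have hM : h ∈ M1 X :=
    (mem_M1 X).2 ⟨hh, eps_of_fix X hh hy.1 hy.2.1 (mul_inv_eq_iff_eq_mul.1 (by rw [hl, pB, py]))⟩
  have he : h * ee X * h⁻¹ = X.L.lab ptB x := (hl _ _).trans (by rw [pB, pC])
  have hxM : X.L.lab ptB x ∈ M1 X := he ▸ mul_mem (mul_mem hM (ee_M1 X)) (inv_mem hM)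
  have hq : QuotientGroup.mk' (Z1 X) ⟨h, hM⟩ * de X * (QuotientGroup.mk' (Z1 X) ⟨h, hM⟩)⁻¹ =
      QuotientGroup.mk' (Z1 X) ⟨X.L.lab ptB x, hxM⟩ := by
    rw [← map_inv, ← map_mul, ← map_mul]
    exact congrArg _ (Subtype.ext he)
  refine ⟨QuotientGroup.mk' (Z1 X) ⟨h, hM⟩, ?_, ?_⟩ <;> rw [hq]
  · refine mem_centralizer_singleton_iff.2 ?_
    exact ((show Commute (⟨X.L.lab ptB x, hxM⟩ : ↥(M1 X)) ⟨ee X, ee_M1 X⟩ from
      Subtype.ext (X.comm (X.lab_A0 _ _) (X.lab_A0 _ _)).eq).map (QuotientGroup.mk' (Z1 X))).eq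
  · intro e
    refine hx.2.2 (lab_B_inj X (x := x) (y := ptC) hx.1 hx.2.1 nac.symm nbc.symm ?_)
    have hu : (X.L.lab ptB x)⁻¹ * ee X ∈ zpowers (tt X) := by
      simpa using mem_subgroupOf.1 (QuotientGroup.eq.1 e)
    rcases (zpowers_tt X).1 hu with q | q <;> rw [inv_mul_eq_iff_eq_mul] at q
    · left; rw [mul_one] at q; exact q
    · right; exact q.trans (X.comm (X.lab_A0 _ _) (X.lab_A0 _ _)).eq

theorem iso_fi22 : Nonempty (↥(M1 X) ⧸ Z1 X ≃* Cfsg.Spor.Fi22) := by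
  classical
  obtain ⟨hn, K, _, _, hK, ⟨e⟩⟩ := X.exists_iso
  haveI hd : ((zpowers (de X)).subgroupOf (centralizer ({de X} : Set (↥(M1 X) ⧸ Z1 X)))).Normal := ⟨fun n hn k => by
    obtain ⟨i, hi⟩ := mem_zpowers_iff.1 (mem_subgroupOf.1 hn)
    have e' : k * n * k⁻¹ = n := by
      refine Subtype.ext ?_
      show (k : ↥(M1 X) ⧸ Z1 X) * n * (k : ↥(M1 X) ⧸ Z1 X)⁻¹ = n
      rw [← hi]
      exact mul_inv_eq_iff_eq_mul.2
        ((show Commute (k : ↥(M1 X) ⧸ Z1 X) (de X) from mem_centralizer_singleton_iff.1 k.2).zpow_right i).eq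
    rw [e']; exact hn⟩
  let ψ := (QuotientGroup.mk' ((zpowers (de X)).subgroupOf (centralizer ({de X} : Set (↥(M1 X) ⧸ Z1 X))))).comp
    (cmap X)
  have hψ : ψ.ker = X.E.subgroupOf X.C := by
    rw [← MonoidHom.comap_ker, QuotientGroup.ker_mk', de_preimage]
  have e' := ((QuotientGroup.quotientKerEquivOfSurjective ψ
    ((QuotientGroup.mk'_surjective _).comp (cmap_surj X))).symm.trans (QuotientGroup.quotientMulEquivOfEq hψ)).trans e
  exact Cfsg.Agent.S1713.result (de X) (orderOf_de X) (de_quasisimple X) K hK e' (de_other X)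

theorem M1_quasisimple : Cfsg.IsQuasisimple ↥(M1 X) ∧ Subgroup.center ↥(M1 X) = Z1 X ∧
    Nonempty (↥(M1 X) ⧸ Subgroup.center ↥(M1 X) ≃* Cfsg.Spor.Fi22) := by
  classical
  obtain ⟨i⟩ := iso_fi22 X
  haveI := Coset.Fi22.isSimple
  have hperfF : commutator Cfsg.Spor.Fi22 = ⊤ :=
    ((inferInstance : (commutator Cfsg.Spor.Fi22).Normal).eq_bot_or_eq_top).resolve_left fun h => by
      have hall : (⊤ : Subgroup Cfsg.Spor.Fi22) ≤ Subgroup.center Cfsg.Spor.Fi22 := fun g _ =>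
        mem_center_iff.2 fun k => (commutatorElement_eq_one_iff_mul_comm.1 (by
          have hk : ⁅k, g⁆ ∈ commutator Cfsg.Spor.Fi22 := commutator_mem_commutator (mem_top _) (mem_top _)
          rwa [h, mem_bot] at hk))
      rw [ThreeT.Prod.center_fi22] at hall
      exact top_ne_bot (le_bot_iff.1 hall)
  have hcenter : Subgroup.center ↥(M1 X) = Z1 X := by
    refine le_antisymm (fun v hv => ?_) (Z1_le X)
    have h1 : i (QuotientGroup.mk' (Z1 X) v) ∈ Subgroup.center Cfsg.Spor.Fi22 := mem_center_iff.2 fun u => by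
      obtain ⟨u, rfl⟩ := i.surjective u
      obtain ⟨u, rfl⟩ := QuotientGroup.mk'_surjective (Z1 X) u
      rw [← map_mul, ← map_mul, ← map_mul, ← map_mul, mem_center_iff.1 hv u]
    rw [ThreeT.Prod.center_fi22, mem_bot, MulEquiv.map_eq_one_iff] at h1
    exact (QuotientGroup.eq_one_iff _).1 h1
  have hquot : Nonempty (↥(M1 X) ⧸ Subgroup.center ↥(M1 X) ≃* Cfsg.Spor.Fi22) :=
    ⟨(QuotientGroup.quotientMulEquivOfEq hcenter).trans i⟩
  refine ⟨⟨⟨?_⟩, ?_⟩, hcenter, hquot⟩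
  · have hZ : Z1 X ≤ commutator ↥(M1 X) := fun v hv => by
      rcases (zpowers_tt X).1 (mem_subgroupOf.1 hv) with e | e
      · rw [show v = 1 from Subtype.ext e]; exact one_mem _
      · have h1 : (⟨tt X, X.E_le_C X.ab_E⟩ : ↥X.C) ∈ commutator ↥X.C := by
          rw [X.quasisimple.1.commutator_eq_top]; exact mem_top _
        have h2 : (commutator ↥X.C).map (Subgroup.inclusion (C_le_M1 X)) ≤ commutator ↥(M1 X) := by
          rw [commutator_def, map_commutator]; exact commutator_mono le_top le_top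
        rw [show v = Subgroup.inclusion (C_le_M1 X) ⟨tt X, X.E_le_C X.ab_E⟩ from Subtype.ext e]
        exact h2 (mem_map_of_mem _ h1)
    refine eq_top_iff.2 fun v _ => ?_
    have h3 : (commutator ↥(M1 X)).map (i.toMonoidHom.comp (QuotientGroup.mk' (Z1 X))) = ⊤ := by
      rw [commutator_def, map_commutator, map_top_of_surjective _ (i.surjective.comp (QuotientGroup.mk'_surjective _)),
        ← commutator_def, hperfF]
    obtain ⟨c, hc, ec⟩ : i (QuotientGroup.mk' (Z1 X) v) ∈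
        (commutator ↥(M1 X)).map (i.toMonoidHom.comp (QuotientGroup.mk' (Z1 X))) := h3 ▸ mem_top _
    rw [show v = c * (c⁻¹ * v) by group]
    exact mul_mem hc (hZ (QuotientGroup.eq.1 (i.injective ec)))
  · obtain ⟨j⟩ := hquot
    exact j.isSimpleGroup

/-- The data of the statement at the first involution. -/
theorem cent_data [hn : ((zpowers (tt X)).subgroupOf (Mt X)).Normal] :
    ∃ K : Subgroup ↥(Mt X), K.index = 2 ∧ Cfsg.IsQuasisimple ↥K ∧ centralizer (K : Set ↥(Mt X)) ≤ K ∧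
      (⟨tt X, (mem_Mt X).2 (Commute.refl _)⟩ : ↥(Mt X)) ∈ K ∧
      Nonempty (↥(Mt X) ⧸ (zpowers (tt X)).subgroupOf (Mt X) ≃* MulAut Cfsg.Spor.Fi22) := by
  obtain ⟨hqs, hcen, ⟨e⟩⟩ := M1_quasisimple X
  refine ⟨(M1 X).subgroupOf (Mt X), index_M1 X,
    Comp.isQuasisimple_of_equiv (subgroupOfEquivOfLe (M1_le X)).symm hqs, fun g hg => ?_,
    mem_subgroupOf.2 (tt_M1 X), ?_⟩
  · refine mem_subgroupOf.2 (M1_cent X g.2 fun k hk => ?_)
    exact (congrArg Subtype.val (mem_centralizer_iff.1 hg ⟨k, M1_le X hk⟩ (mem_subgroupOf.2 hk))).symm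
  · refine aut_quot (M1_le X) (tt_M1 X) (index_M1 X) (fun g hg h => M1_cent X hg h) ?_ hqs e
    rw [hcen, map_subgroupOf_eq_of_le (zpowers_le.2 (tt_M1 X))]

/-- The statement for every small involution. -/
theorem exists_fi22 {G : Type*} [Group G] [Finite G] (z : G) (Q : Subgroup (centralizer ({z} : Set G))) [Q.Normal]
    (hF : Cfsg.IsOfLargeFischerTypeAt z Q) (t : G)
    (htQ : ∃ htc : t ∈ centralizer ({z} : Set G), (⟨t, htc⟩ : centralizer ({z} : Set G)) ∈ Q)
    (ht2 : orderOf t = 2) (ht : ¬ IsConj z t) (K : Subgroup ↥(centralizer ({t} : Set G)))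
    (hK : K = Cfsg.generalizedFittingSubgroup ↥(centralizer ({t} : Set G)))
    [hn : ((zpowers t).subgroupOf (centralizer ({t} : Set G))).Normal] :
    Cfsg.IsQuasisimple ↥K ∧ K.index = 2 ∧
      (∃ htc : t ∈ centralizer ({t} : Set G), (⟨t, htc⟩ : ↥(centralizer ({t} : Set G))) ∈ K) ∧
      Nonempty (↥(centralizer ({t} : Set G)) ⧸ (zpowers t).subgroupOf (centralizer ({t} : Set G)) ≃*
        MulAut Cfsg.Spor.Fi22) := by
  obtain ⟨D, ⟨X⟩⟩ := exists_ctx hF
  obtain ⟨htc, htq⟩ := htQ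
  -- the involution is small, hence conjugate to the first one
  set q : Q := ⟨⟨t, htc⟩, htq⟩
  have hq : val q = t := rfl
  have ht1 : t ≠ 1 := fun e => by rw [e, orderOf_one] at ht2; exact absurd ht2 (by norm_num)
  have h0 : D.π q ≠ 0 := fun e => by
    rcases (D.π_eq_zero q).1 e with h | h
    · exact ht1 h
    · exact ht (hq.symm.trans h ▸ IsConj.refl z)
  have hsing : qn (D.π q) = 0 := (D.sq_iff q).1 (Subtype.ext (Subtype.ext (by
    show t * t = 1
    rw [← pow_two, ← ht2, pow_orderOf_eq_one])))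
  have horb : D.π q ∈ D.T.orb ⊤ v2 := by
    by_contra h
    exact ht (hq ▸ large_z D X.hgs X.hsz hsing h0 h)
  have hc0 : IsConj (tt X) t := by
    have hqa : D.π X.qa ∈ D.T.orb ⊤ v2 := by
      rw [X.πa]; simpa only [one_smul] using smul_v2_small D.T (one_ne_zero (α := F4))
    have := small_conj D hqa horb
    rwa [X.ea, hq] at this
  obtain ⟨c, hc⟩ := isConj_iff.1 hc0
  haveI hn0 : ((zpowers (tt X)).subgroupOf (Mt X)).Normal := ⟨fun n hn k => by
    obtain ⟨i, hi⟩ := mem_zpowers_iff.1 (mem_subgroupOf.1 hn)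
    have e : k * n * k⁻¹ = n := Subtype.ext (by
      show (k : G) * n * (k : G)⁻¹ = n
      rw [← hi]
      exact mul_inv_eq_iff_eq_mul.2 (((mem_Mt X).1 k.2).zpow_right i).eq)
    rw [e]; exact hn⟩
  obtain ⟨K0, hidx, hqs, hcen, htK, ⟨e⟩⟩ := cent_data X
  have hmap : (Mt X).map (MulAut.conj c).toMonoidHom = centralizer ({t} : Set G) := by
    ext g
    rw [mem_map_equiv, mem_centralizer_singleton_iff, mem_centralizer_singleton_iff, MulAut.conj_symm_apply]
    constructor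
    · intro h
      have := congrArg (fun u => c * u * c⁻¹) h
      rw [← hc]
      simpa [mul_assoc] using this
    · intro h
      have := congrArg (fun u => c⁻¹ * u * c) h
      rw [← hc] at this
      simpa [mul_assoc] using this
  let Φ : ↥(Mt X) ≃* ↥(centralizer ({t} : Set G)) :=
    ((MulAut.conj c).subgroupMap (Mt X)).trans (MulEquiv.subgroupCongr hmap)
  have hΦ : ∀ g, ((Φ g : ↥(centralizer ({t} : Set G))) : G) = c * g * c⁻¹ := fun g => rfl
  set K1 := K0.map Φ.toMonoidHom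
  have h1 : K1.index = 2 := by rw [← hidx]; exact index_map_equiv K0 Φ
  have h2 : Cfsg.IsQuasisimple ↥K1 := Comp.isQuasisimple_of_equiv (Φ.subgroupMap K0) hqs
  have h3 : centralizer (K1 : Set ↥(centralizer ({t} : Set G))) ≤ K1 := fun g hg => by
    obtain ⟨g, rfl⟩ := Φ.surjective g
    refine mem_map_of_mem _ (hcen (mem_centralizer_iff.2 fun k hk => ?_))
    exact Φ.injective (by rw [map_mul, map_mul]; exact mem_centralizer_iff.1 hg _ (mem_map_of_mem _ hk))
  have hK1 : K = K1 := hK.trans (ThreeT.Prod.fstar_eq_of_quasisimple K1 h1 h2 h3)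
  subst hK1
  refine ⟨h2, h1, ⟨mem_centralizer_singleton_iff.2 rfl, ⟨_, htK, Subtype.ext ((hΦ _).trans hc)⟩⟩, ?_⟩
  have hZ : ((zpowers (tt X)).subgroupOf (Mt X)).map Φ.toMonoidHom =
      (zpowers t).subgroupOf (centralizer ({t} : Set G)) := by
    ext g
    obtain ⟨g, rfl⟩ := Φ.surjective g
    rw [mem_subgroupOf, hΦ, show zpowers t = zpowers (c * tt X * c⁻¹) by rw [hc]]
    constructor
    · rintro ⟨k, hk, e⟩
      obtain ⟨i, hi⟩ := mem_zpowers_iff.1 (mem_subgroupOf.1 hk)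
      rw [← Φ.injective e, ← hi]
      exact mem_zpowers_iff.2 ⟨i, by rw [conj_zpow]⟩
    · intro h
      obtain ⟨i, hi⟩ := mem_zpowers_iff.1 h
      rw [conj_zpow] at hi
      exact ⟨g, mem_subgroupOf.2 (mem_zpowers_iff.2 ⟨i, mul_left_cancel (mul_right_cancel hi)⟩), rfl⟩
  exact ⟨(QuotientGroup.congr _ _ Φ hZ).symm.trans e⟩

end CfsgLib.FiLarge.Cent
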