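import Cfsg.Agent.FiLarge.U62.Final

/-!
An involution moved into few positions by the abelian subgroup lies in it.
-/

set_option autoImplicit false
set_option quotPrecheck false
set_option maxRecDepth 100000
set_option linter.style.haveILetI false
set_option linter.unusedSectionVars false

open scoped Matrix

namespace CfsgLib.FiLarge.Cent

open CfsgLib Subgroup Matrix CfsgLib.Unitary CfsgLib.FiLarge.Thom CfsgLib.FiLarge.U62
open CfsgLib.FiLarge.Dat (val)

theorem plane_span : ∀ b c b' c' : F4, b * c' ≠ b' * c →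
    (∃ k l : F4, k * b + l * b' = 1 ∧ k * c + l * c' = 0) ∧
      ∃ k l : F4, k * b + l * b' = 0 ∧ k * c + l * c' = 1 := by
  decide +kernel

theorem f4_sq_one : ∀ c : F4, c * c = 1 → c = 1 := by decide +kernel

variable {G : Type*} [Group G] [Finite G] {z : G} {Q : Subgroup (centralizer ({z} : Set G))} [Q.Normal]
  {D : Dat z Q} (X : Ctx D)

/-- An involution of the part at the centre commuting with members over two points of the plane. -/
theorem plane_fix {d : G} (hd2 : d * d = 1) (hK : d ∈ X.KK) {p1 p2 : V4} (h1 : InPl p1) (h2 : InPl p2)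
    (hne : tvp p1 ≠ tvp p2) {m1 m2 : G} (hm1 : m1 ∈ X.fib p1) (hA1 : m1 ∈ A0 D) (hm2 : m2 ∈ X.fib p2)
    (hA2 : m2 ∈ A0 D) (c1 : Commute d m1) (c2 : Commute d m2) : d ∈ A0 D := by
  have nz : ∀ p, InPl p → ¬ (p 0 = 0 ∧ p 2 = 0) := fun p hp hh => hp.1.1 (funext fun i => by
    fin_cases i <;> simp [hh.1, hh.2, ← hp.2.1, ← hp.2.2])
  have hb : p1 0 * p2 2 ≠ p2 0 * p1 2 := fun h => by
    obtain ⟨k, hk, e1, e2⟩ := plane_multiple _ _ _ _ (nz p1 h1) (nz p2 h2) h
    refine hne ?_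
    have e : p2 = k • p1 := funext fun i => by
      fin_cases i <;> simp [← h1.2.1, ← h1.2.2, ← h2.2.1, ← h2.2.2, e1, e2]
    rw [e, tvp_smul h1.1 hk]
  have hsq : X.ph d * X.ph d = 1 := by rw [← X.ph_mul hK hK, hd2, X.ph_one]
  have hfix : ∀ {p : V4} {m : G}, IsPt4 p → m ∈ X.fib p → Commute d m → suMat (X.ph d) *ᵥ p = p := by
    intro p m hp hm hc
    have h := X.ph_commute hK hm.2.1 hc
    rw [hm.2.2] at h
    obtain ⟨c, hc0, e⟩ := tvp_eq_smul hp (pt_map hp (X.ph d))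
      (by rw [← tvp_conj hp, h.eq, mul_inv_cancel_right])
    have e2 : suMat (X.ph d * X.ph d) *ᵥ p = (c * c) • p := by
      rw [suMat_mul, ← Matrix.mulVec_mulVec, e, Matrix.mulVec_smul, e, smul_smul]
    rw [hsq, suMat_one, Matrix.one_mulVec] at e2
    have hcc : c * c = 1 := by
      obtain ⟨i, hi⟩ := Function.ne_iff.1 hp.1
      have := congrFun e2 i
      rw [Pi.smul_apply, smul_eq_mul] at this
      exact (mul_left_eq_self₀.1 this.symm).resolve_right hi
    rw [e, f4_sq_one c hcc, one_smul]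
  have f1 := hfix h1.1 hm1 c1
  have f2 := hfix h2.1 hm2 c2
  obtain ⟨⟨k, l, ek, el⟩, k', l', ek', el'⟩ := plane_span _ _ _ _ hb
  have t2 : suMat (X.ph d) *ᵥ tv2 = tv2 := by
    have e : tv2 = k • p1 + l • p2 := funext fun i => by
      fin_cases i <;> simp [tv2, ← h1.2.1, ← h1.2.2, ← h2.2.1, ← h2.2.2, ek, el]
    rw [e, Matrix.mulVec_add, Matrix.mulVec_smul, Matrix.mulVec_smul, f1, f2]
  have t3 : suMat (X.ph d) *ᵥ tv3 = tv3 := by
    have e : tv3 = k' • p1 + l' • p2 := funext fun i => by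
      fin_cases i <;> simp [tv3, ← h1.2.1, ← h1.2.2, ← h2.2.1, ← h2.2.2, ek', el']
    rw [e, Matrix.mulVec_add, Matrix.mulVec_smul, Matrix.mulVec_smul, f1, f2]
  obtain ⟨h, eh⟩ := umat_shape (M := suMat (X.ph d)) (fun a b => by
    have e := su_preserves (X.ph d) (Pi.single a 1) (Pi.single b 1)
    simp only [Cfsg.hermForm, Fin.sum_univ_four, Matrix.mulVec_single, MulOpposite.op_one, one_smul] at e
    fin_cases a <;> fin_cases b <;> simp_all [Matrix.col_apply]) t2 t3
  have hph : X.ph d = suElt (umat h) (umat_isU h) := Subtype.ext (Subtype.ext eh)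
  obtain ⟨a, ha⟩ := exists_over D X.hinv (ovr_fix D.T h)
  have haK := X.A0_le_KK a.2
  have hpa : X.ph a = X.ph d := by
    rw [hph, X.ph_def haK, ← ovr_spec D.T (umat h) (umat_isU h)]
    exact congrArg _ (Subtype.ext ha)
  obtain ⟨q, hq⟩ := (X.ph_eq_one (mul_mem (inv_mem haK) hK)).1 (by
    rw [X.ph_mul (inv_mem haK) hK, X.ph_inv haK, hpa, inv_mul_cancel])
  have hqK : val q ∈ X.KK := hq ▸ mul_mem (inv_mem haK) hK
  have hqb := X.val_KK.1 hqK
  have hperp : ∀ {p : V4} {m : G}, IsPt4 p → m ∈ X.fib p → m ∈ A0 D → Commute d m →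
      h4 (tail (D.π q)) p = 0 := by
    intro p m hp hm hA hc
    have hqm : Commute (val q) m := hq ▸ ((X.comm a.2 hA).inv_left.mul_left hc)
    obtain ⟨-, c, hc, ht⟩ := X.tail_conj hm.2.1 hqb (q' := q) (by rw [hqm.symm.eq, mul_inv_cancel_right])
    rw [hm.2.2, tvp_apply hp] at ht
    generalize tail (D.π q) = v at ht ⊢
    have h2 := congrArg (fun x => h4 x p) ht
    simp only [h4_smul_left, h4_add_left, hp.2, mul_zero, add_zero] at h2
    by_contra hne
    have hc1 : c = 1 := mul_right_cancel₀ hne (by rw [one_mul]; exact h2.symm)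
    rw [hc1, one_smul, eq_comm, add_eq_left, smul_eq_zero] at ht
    exact ht.elim hne hp.1
  have o1 := hperp h1.1 hm1 hA1 c1
  have o2 := hperp h2.1 hm2 hA2 c2
  rw [h4_plane h1] at o1
  rw [h4_plane h2] at o2
  obtain ⟨s1, s2⟩ := (plane_coeff _ _ _ _ _ _ o1 o2).resolve_left hb
  have hW : InW (D.π q) := ⟨hqb, eq_of_add_F4 _ _ s1, eq_of_add_F4 _ _ s2⟩
  rw [show d = (a : G) * val q by rw [hq, mul_inv_cancel_left]]
  exact mul_mem a.2 (R0_le_A0 D (val_mem_R0 D hW))

/-- An involution of the centraliser commuting with many points lies in the abelian subgroup. -/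
theorem many_points {d : G} (hd2 : d * d = 1) (hdC : d ∈ X.C) (S : Finset Cfsg.GolayPt) (hS : 6 ≤ S.card)
    (hp : ∀ x ∈ S, IsPoint x) (hc : ∀ x ∈ S, Commute d (X.dX x)) : d ∈ A0 D := by
  classical
  obtain ⟨x1, hx1⟩ := Finset.card_pos.1 (by omega : 0 < S.card)
  obtain ⟨g, hg, hgN, hgx⟩ := X.norm_move (hp x1 hx1)
  refine (Ctx.conj_A0_iff hgN).1 ?_
  set d' := g * d * g⁻¹
  have hd'2 : d' * d' = 1 := by rw [Thom.conj_mul, hd2, mul_one, mul_inv_cancel]
  have hd'K : d' ∈ X.KK := X.mem_KK.2 ⟨mul_mem (mul_mem hg hdC) (inv_mem hg),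
    hgx ▸ (ThreeT.commute_conj_iff g _ _).2 (hc x1 hx1)⟩
  have hA : ∀ x, g * X.dX x * g⁻¹ ∈ A0 D := fun x => (Ctx.conj_A0_iff hgN).2 (X.dX_A0 x)
  have hpt : ∀ x ∈ S.erase x1, ∃ p, InPl p ∧ g * X.dX x * g⁻¹ ∈ X.fib p := by
    intro x hx
    obtain ⟨hne, hxS⟩ := Finset.mem_erase.1 hx
    obtain ⟨p, hp', hf⟩ := X.exists_fib (X.DD_conj (X.dX_mem (hp x hxS)) hg) (X.A0_le_KK (hA x))
      (Ctx.view_ne hgx fun e => hne (X.dX_inj e))
    exact ⟨p, X.A0_fib hp' hf (hA x), hf⟩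
  obtain ⟨x2, hx2⟩ := Finset.card_pos.1 (show 0 < (S.erase x1).card by
    rw [Finset.card_erase_of_mem hx1]; omega)
  obtain ⟨p2, hp2, hf2⟩ := hpt x2 hx2
  obtain ⟨x3, hx3, p3, hp3, hf3, hne⟩ : ∃ x3 ∈ S.erase x1, ∃ p3, InPl p3 ∧ g * X.dX x3 * g⁻¹ ∈ X.fib p3 ∧
      tvp p2 ≠ tvp p3 := by
    by_contra hno
    push Not at hno
    have hall : (↑((S.erase x1).image fun x => g * X.dX x * g⁻¹) : Set G) ⊆ X.fib p2 := by
      intro y hy
      obtain ⟨x, hx, rfl⟩ := Finset.mem_image.1 hy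
      obtain ⟨p, hp', hf⟩ := hpt x hx
      exact ⟨hf.1, hf.2.1, hf.2.2.trans (hno x hx p hp' hf).symm⟩
    have h := Set.ncard_le_ncard hall (Set.toFinite _)
    rw [Set.ncard_coe_finset, X.fib_card hp2.1, Finset.card_image_of_injective _
      (fun a b e => X.dX_inj (mul_left_cancel (mul_right_cancel e))), Finset.card_erase_of_mem hx1] at h
    omega
  exact plane_fix X hd'2 hd'K hp2 hp3 hne hf2 (hA x2) hf3 (hA x3)
    ((ThreeT.commute_conj_iff g _ _).2 (hc x2 (Finset.mem_of_mem_erase hx2)))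
    ((ThreeT.commute_conj_iff g _ _).2 (hc x3 (Finset.mem_of_mem_erase hx3)))

/-- The case of a frame inside one class. -/
theorem frame_case {α : Type*} [DecidableEq α] {d : G} (hd2 : d * d = 1) (f : Cfsg.GolayPt → α) (s : Finset α)
    (hs : s.card ≤ 4) (hf : ∀ x, f x ∈ s) {pA pB : Cfsg.GolayPt} (hA : IsPoint pA) (hB : IsPoint pB)
    (hc : ∀ x y, x ≠ pA → x ≠ pB → y ≠ pA → y ≠ pB → f x = f y → Commute d (X.L.lab x y))
    (hab : f ptA = f ptB) (hbc : f ptB = f ptC) : d ∈ A0 D := by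
  classical
  have hdC : d ∈ X.C := X.mem_C.2 ⟨hc _ _ hA.1.symm hB.1.symm hA.2.1.symm hB.2.1.symm hab,
    hc _ _ hA.2.1.symm hB.2.1.symm hA.2.2.symm hB.2.2.symm hbc⟩
  set T : Finset Cfsg.GolayPt := ((Finset.univ.filter fun x => IsPoint x).erase pA).erase pB with hT
  have memT : ∀ {x}, x ∈ T ↔ x ≠ pB ∧ x ≠ pA ∧ IsPoint x := fun {x} => by simp [hT]
  have hTc : 19 ≤ T.card := by
    have h1 := Finset.pred_card_le_card_erase (a := pA) (s := Finset.univ.filter fun x => IsPoint x)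
    have h2 := Finset.pred_card_le_card_erase (a := pB) (s := (Finset.univ.filter fun x => IsPoint x).erase pA)
    rw [card_points] at h1
    show 19 ≤ (((Finset.univ.filter fun x => IsPoint x).erase pA).erase pB).card
    omega
  set big := fun x => f x = f ptC ∨ 3 ≤ (T.filter fun y => f y = f x).card with hbig
  have hbad : (T.filter fun x => ¬ big x).card ≤ 6 := by
    refine (Finset.card_le_mul_card_image (f := f) _ 2 fun o ho => ?_).trans ?_
    · obtain ⟨x, hx, rfl⟩ := Finset.mem_image.1 ho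
      have h := (Finset.mem_filter.1 hx).2
      simp only [hbig, not_or, not_le] at h
      refine le_trans (Finset.card_le_card fun y hy => ?_) (Nat.le_of_lt_succ h.2)
      obtain ⟨hy1, hy2⟩ := Finset.mem_filter.1 hy
      exact Finset.mem_filter.2 ⟨(Finset.mem_filter.1 hy1).1, hy2⟩
    · have : ((T.filter fun x => ¬ big x).image f).card ≤ (s.erase (f ptC)).card :=
        Finset.card_le_card fun o ho => by
          obtain ⟨x, hx, rfl⟩ := Finset.mem_image.1 ho
          exact Finset.mem_erase.2 ⟨fun e => (Finset.mem_filter.1 hx).2 (Or.inl e), hf x⟩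
      rw [Finset.card_erase_of_mem (hf ptC)] at this
      omega
  have hgood := Finset.card_filter_add_card_filter_not (s := T) big
  refine many_points X hd2 hdC (T.filter big) (by omega) (fun x hx => (memT.1 (Finset.mem_filter.1 hx).1).2.2) ?_
  intro x hx
  obtain ⟨hxT, hxb⟩ := Finset.mem_filter.1 hx
  obtain ⟨x1, x2, xP⟩ := memT.1 hxT
  rcases hxb with e | e
  · rw [Ctx.dX]
    exact ((X.mem_C.1 hdC).1).mul_right (hc _ _ hA.2.2.symm hB.2.2.symm x2 x1 e.symm)
  · obtain ⟨y, hy, w, hw, hyw⟩ := Finset.one_lt_card.1 (show 1 < ((T.filter fun y => f y = f x).erase x).card by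
      have := Finset.pred_card_le_card_erase (a := x) (s := T.filter fun y => f y = f x)
      omega)
    simp only [Finset.mem_erase, Finset.mem_filter, memT] at hy hw
    obtain ⟨yx, ⟨y1, y2, yP⟩, ey⟩ := hy
    obtain ⟨wx, ⟨w1, w2, wP⟩, ew⟩ := hw
    have key : ∀ v, IsPoint v → v ≠ x → v ≠ pA → v ≠ pB → f v = f x →
        d * X.dX x * d⁻¹ = X.dX x ∨ d * X.dX x * d⁻¹ = X.dX v := fun v vP vx v2 v1 ev =>
      X.pair_fusion (X.dX_Om xP) (X.dX_Om vP) (fun q => vx (X.dX_inj q).symm) (X.dX_comm x v) hdC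
        (by rw [X.dX_mul]; exact hc x v x2 x1 v2 v1 ev.symm)
        (X.C_le_N (mul_mem (mul_mem hdC (X.DD_C (X.dX_mem xP))) (inv_mem hdC)))
    refine mul_inv_eq_iff_eq_mul.1 ?_
    rcases key y yP yx y2 y1 ey with q | q
    · exact q
    rcases key w wP wx w2 w1 ew with q' | q'
    · exact q'
    exact absurd (X.dX_inj (q.symm.trans q')) hyw

/-- An involution commuting with the first pair, whose translates under the abelian subgroup take at most four
positions, lies in it. -/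
theorem mem_A0_of_classes {α : Type*} [DecidableEq α] {d : G} (hd2 : d * d = 1)
    (hdt : Commute d (X.L.lab ptA ptB)) (f : Cfsg.GolayPt → α) (s : Finset α) (hs : s.card ≤ 4) (hf : ∀ x, f x ∈ s)
    (hB : ∀ x y, f x = f y → X.L.lab x y * d * (X.L.lab x y)⁻¹ = d ∨
      X.L.lab x y * d * (X.L.lab x y)⁻¹ = X.L.lab ptA ptB * d) : d ∈ A0 D := by
  classical
  obtain ⟨nab, -, -⟩ := abc_ne
  set t := X.L.lab ptA ptB
  have hcom : ∀ x y, x ≠ ptA → x ≠ ptB → y ≠ ptA → y ≠ ptB → f x = f y → Commute d (X.L.lab x y) := by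
    intro x y x1 x2 y1 y2 e
    rcases hB x y e with q | q
    · exact (mul_inv_eq_iff_eq_mul.1 q).symm
    by_cases hxy : x = y
    · rw [hxy, X.L.self]; exact Commute.one_right d
    exfalso
    set b := X.L.lab x y
    have hbz : ¬ IsConj z b := ((mem_nS D).1 (X.L.mem x y hxy)).2.2
    have h2 : d * b * d⁻¹ = t * b := by
      have q' : b * d = t * d * b := mul_inv_eq_iff_eq_mul.1 q
      rw [inv_eq_of_mul_eq_one_right hd2, mul_assoc, q', ← mul_assoc, ← mul_assoc, hdt.eq, mul_assoc t d d, hd2,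
        mul_one]
    refine hbz ((conj_z_conj d b).1 ?_)
    rw [h2]
    exact X.four_z (by simp [Finset.card_insert_of_notMem, nab, x1.symm, x2.symm, y1.symm, y2.symm, hxy])
  set T : Finset Cfsg.GolayPt := (Finset.univ.erase ptA).erase ptB with hTdef
  have hT : T.card = 22 := by
    rw [hTdef, Finset.card_erase_of_mem (by simp [nab.symm]), Finset.card_erase_of_mem (Finset.mem_univ _),
      Finset.card_univ, Golay.card_golayPt]
  obtain ⟨o, -, ho⟩ := Finset.exists_lt_card_fiber_of_mul_lt_card_of_maps_to (s := T) (t := s) (f := f) (n := 2)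
    (fun x _ => hf x) (by omega)
  obtain ⟨S, hSsub, hS⟩ := Finset.exists_subset_card_eq (show 3 ≤ _ from ho)
  obtain ⟨a, b, c, nab', nac, nbc, rfl⟩ := Finset.card_eq_three.1 hS
  simp only [Finset.insert_subset_iff, Finset.singleton_subset_iff, Finset.mem_filter, hTdef, Finset.mem_erase] at hSsub
  obtain ⟨⟨⟨a2, a1, -⟩, ea⟩, ⟨⟨b2, b1, -⟩, eb⟩, ⟨c2, c1, -⟩, ec⟩ := hSsub
  obtain ⟨π, ga, gb, gc⟩ := move_three a b c nab' nbc nac
  obtain ⟨m, rfl⟩ := X.L.surj π
  have hlab : ∀ p q, (m : G) * X.L.lab p q * (m : G)⁻¹ = X.L.lab ((X.L.φ m : Equiv.Perm Cfsg.GolayPt) p)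
      ((X.L.φ m : Equiv.Perm Cfsg.GolayPt) q) := X.L.conj m
  set σ : Equiv.Perm Cfsg.GolayPt := (X.L.φ m : Equiv.Perm Cfsg.GolayPt)
  refine (Ctx.conj_A0_iff m.2).1 ?_
  have hpt : ∀ p, p ≠ a → p ≠ b → p ≠ c → IsPoint (σ p) := fun p p1 p2 p3 =>
    ⟨fun e => p1 (σ.injective (e.trans ga.symm)), fun e => p2 (σ.injective (e.trans gb.symm)),
      fun e => p3 (σ.injective (e.trans gc.symm))⟩
  refine frame_case X (by rw [Thom.conj_mul, hd2, mul_one, mul_inv_cancel]) (fun p => f (σ.symm p)) s hs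
    (fun p => hf _) (hpt ptA a1.symm b1.symm c1.symm) (hpt ptB a2.symm b2.symm c2.symm) ?_ ?_ ?_
  · intro x y x1 x2 y1 y2 e
    have h := (ThreeT.commute_conj_iff (m : G) _ _).2 (hcom (σ.symm x) (σ.symm y)
      (fun q => x1 (by rw [← q, σ.apply_symm_apply])) (fun q => x2 (by rw [← q, σ.apply_symm_apply]))
      (fun q => y1 (by rw [← q, σ.apply_symm_apply])) (fun q => y2 (by rw [← q, σ.apply_symm_apply])) e)
    rwa [hlab, σ.apply_symm_apply, σ.apply_symm_apply] at h
  · show f (σ.symm ptA) = f (σ.symm ptB)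
    rw [← ga, ← gb, σ.symm_apply_apply, σ.symm_apply_apply, ea, eb]
  · show f (σ.symm ptB) = f (σ.symm ptC)
    rw [← gb, ← gc, σ.symm_apply_apply, σ.symm_apply_apply, eb, ec]

end CfsgLib.FiLarge.Cent
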