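import Cfsg.Agent.FiLarge.Cent.Parity
import Cfsg.Agent.FiLarge.Cent.Small
import Cfsg.Agent.Golay.Mathieu

/-!
The centraliser of a small involution has a subgroup of index two: the parity of its action on the conjugates
of a second small involution.
-/

set_option autoImplicit false
set_option quotPrecheck false
set_option maxRecDepth 100000
set_option linter.style.haveILetI false
set_option linter.unusedSectionVars false

namespace CfsgLib.FiLarge.Cent

open CfsgLib Subgroup CfsgLib.FiLarge.Thom CfsgLib.FiLarge.U62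
open CfsgLib.FiLarge.Dat (val)

theorem even_support {α : Type*} [Fintype α] [DecidableEq α] {σ : Equiv.Perm α} (h : σ * σ = 1) :
    2 ∣ σ.support.card := by
  rw [← Equiv.Perm.sum_cycleType]
  refine Multiset.dvd_sum fun n hn => ?_
  have h1 : n ∣ 2 := (Equiv.Perm.dvd_of_mem_cycleType hn).trans (orderOf_dvd_of_pow_eq_one (by rw [pow_two, h]))
  have h2 := Equiv.Perm.two_le_of_mem_cycleType hn
  have h3 := Nat.le_of_dvd two_pos h1
  omega

theorem M24_sign (g : Cfsg.M24) : Equiv.Perm.sign (g : Equiv.Perm Cfsg.GolayPt) = 1 := by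
  haveI := Golay.m24_simple
  set f : Cfsg.M24 →* ℤˣ := Equiv.Perm.sign.comp Cfsg.M24.subtype
  rcases (inferInstance : f.ker.Normal).eq_bot_or_eq_top with h | h
  · exfalso
    have h1 : Nat.card Cfsg.M24 ≤ Nat.card ℤˣ := Nat.card_le_card_of_injective f ((MonoidHom.ker_eq_bot_iff f).1 h)
    rw [Nat.card_eq_fintype_card (α := ℤˣ), Fintype.card_units_int] at h1
    haveI := Golay.pretransitive
    have p : Cfsg.GolayPt := Golay.pt 0
    have h2 := (MulAction.stabilizer Cfsg.M24 p).card_mul_index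
    rw [Golay.card_stab_point, MulAction.index_stabilizer_of_transitive, Golay.natCard_golayPt] at h2
    omega
  · exact (h ▸ Subgroup.mem_top g : g ∈ f.ker)

theorem odd_vector : ∃ v : V6, qn v = 0 ∧ ¬ InW v := by unfold InW; decide +kernel

theorem move_four {a b c e a' b' c' e' : Cfsg.GolayPt} (h : [a, b, c, e].Nodup) (h' : [a', b', c', e'].Nodup) :
    ∃ g : Cfsg.M24, (g : Equiv.Perm Cfsg.GolayPt) a = a' ∧ (g : Equiv.Perm Cfsg.GolayPt) b = b' ∧
      (g : Equiv.Perm Cfsg.GolayPt) c = c' ∧ (g : Equiv.Perm Cfsg.GolayPt) e = e' := by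
  haveI := Golay.pretransitive_emb 4 (by norm_num)
  let u : Fin 4 ↪ Cfsg.GolayPt := ⟨[a, b, c, e].get, List.nodup_iff_injective_get.1 h⟩
  let v : Fin 4 ↪ Cfsg.GolayPt := ⟨[a', b', c', e'].get, List.nodup_iff_injective_get.1 h'⟩
  obtain ⟨g, hg⟩ := MulAction.exists_smul_eq Cfsg.M24 u v
  have k : ∀ i, (g : Equiv.Perm Cfsg.GolayPt) (u i) = v i := fun i => congrArg (fun e : Fin 4 ↪ _ => e i) hg
  exact ⟨g, k 0, k 1, k 2, k 3⟩

variable {G : Type*} [Group G] [Finite G] {z : G} {Q : Subgroup (centralizer ({z} : Set G))} [Q.Normal]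
  {D : Dat z Q} (X : Ctx D)

/-- The first involution. -/
abbrev tt : G := X.L.lab ptA ptB

/-- The second involution. -/
abbrev ee : G := X.L.lab ptB ptC

/-- The centraliser of the first involution. -/
abbrev Mt : Subgroup G := centralizer ({tt X} : Set G)

theorem mem_Mt {g : G} : g ∈ Mt X ↔ Commute g (tt X) := mem_centralizer_singleton_iff

theorem Mt_tee {g : G} (hg : g ∈ Mt X) (a : G) : g * (tt X * a) * g⁻¹ = tt X * (g * a * g⁻¹) := by
  rw [← Thom.conj_mul, ((mem_Mt X).1 hg).eq, mul_inv_cancel_right]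

theorem tee : tt X * ee X = X.L.lab ptA ptC := X.L.trans _ _ _

theorem C_le_Mt : X.C ≤ Mt X := fun _ hg => (mem_Mt X).2 (X.mem_C.1 hg).1

theorem A0_le_Mt : A0 D ≤ Mt X := fun _ ha => (mem_Mt X).2 (X.comm ha (X.lab_A0 _ _))

/-- The stabiliser of the second involution up to the first. -/
def NE : Subgroup ↥(Mt X) where
  carrier := {g | (g : G) * ee X * (g : G)⁻¹ = ee X ∨ (g : G) * ee X * (g : G)⁻¹ = tt X * ee X}
  one_mem' := Or.inl (by simp)
  mul_mem' := fun {a b} ha hb => by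
    simp only [Set.mem_setOf_eq] at ha hb ⊢
    rw [show ((a * b : ↥(Mt X)) : G) * ee X * ((a * b : ↥(Mt X)) : G)⁻¹ =
      (a : G) * ((b : G) * ee X * (b : G)⁻¹) * (a : G)⁻¹ by simp [mul_assoc]]
    rcases hb with h | h <;> rw [h]
    · exact ha
    · rw [Mt_tee X a.2]
      rcases ha with h' | h' <;> rw [h']
      · exact Or.inr rfl
      · left; rw [← mul_assoc, X.lab_mul_self, one_mul]
  inv_mem' := fun {a} ha => by
    simp only [Set.mem_setOf_eq] at ha ⊢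
    have e : ((a⁻¹ : ↥(Mt X)) : G) = (a : G)⁻¹ := rfl
    rw [e]
    rcases ha with h | h
    · left; conv_lhs => rw [← h]
      group
    · right
      have h2 : (a : G) * (tt X * ee X) * (a : G)⁻¹ = ee X := by
        rw [Mt_tee X a.2, h, ← mul_assoc, X.lab_mul_self, one_mul]
      calc (a : G)⁻¹ * ee X * (a : G)⁻¹⁻¹ = (a : G)⁻¹ * ((a : G) * (tt X * ee X) * (a : G)⁻¹) * (a : G)⁻¹⁻¹ := by
            rw [h2]
        _ = _ := by group

theorem mk_eq_mk {g h : ↥(Mt X)} : (g : ↥(Mt X) ⧸ NE X) = h ↔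
    (h : G) * ee X * (h : G)⁻¹ = (g : G) * ee X * (g : G)⁻¹ ∨
      (h : G) * ee X * (h : G)⁻¹ = tt X * ((g : G) * ee X * (g : G)⁻¹) := by
  rw [QuotientGroup.eq]
  show ((g⁻¹ * h : ↥(Mt X)) : G) * ee X * ((g⁻¹ * h : ↥(Mt X)) : G)⁻¹ = ee X ∨ _ = tt X * ee X ↔ _
  have e : ((g⁻¹ * h : ↥(Mt X)) : G) * ee X * ((g⁻¹ * h : ↥(Mt X)) : G)⁻¹ =
      (g : G)⁻¹ * ((h : G) * ee X * (h : G)⁻¹) * (g : G) := by simp [mul_assoc]
  rw [e, ← Mt_tee X g.2 (ee X)]
  constructor <;> rintro (q | q)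
  · left
    have := congrArg (fun u => (g : G) * u * (g : G)⁻¹) q
    simpa [mul_assoc] using this
  · right
    have := congrArg (fun u => (g : G) * u * (g : G)⁻¹) q
    simpa [mul_assoc] using this
  · left; rw [q]; group
  · right; rw [q]; group

theorem smul_mk {a g : ↥(Mt X)} : a • (g : ↥(Mt X) ⧸ NE X) = g ↔
    (a : G) * ((g : G) * ee X * (g : G)⁻¹) * (a : G)⁻¹ = (g : G) * ee X * (g : G)⁻¹ ∨
      (a : G) * ((g : G) * ee X * (g : G)⁻¹) * (a : G)⁻¹ = tt X * ((g : G) * ee X * (g : G)⁻¹) := by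
  rw [eq_comm, show a • (g : ↥(Mt X) ⧸ NE X) = ((a * g : ↥(Mt X)) : ↥(Mt X) ⧸ NE X) from rfl, mk_eq_mk]
  simp only [Subgroup.coe_mul, mul_inv_rev, mul_assoc]

/-- The abelian subgroup in the centraliser. -/
abbrev PP : Subgroup ↥(Mt X) := (A0 D).subgroupOf (Mt X)

/-- The abelian subgroup has only regular orbits of length one and orbits of length at least eight. -/
theorem small_orbit (g : ↥(Mt X)) (h : Nat.card (MulAction.orbit (PP X) (g : ↥(Mt X) ⧸ NE X)) < 8) :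
    (g : G) * ee X * (g : G)⁻¹ ∈ A0 D := by
  classical
  haveI : Fintype (↥(Mt X) ⧸ NE X) := Fintype.ofFinite _
  obtain ⟨k, hk⟩ := orbit_card_pow (PP X) (fun a ha => Subtype.ext (X.sq (mem_subgroupOf.1 ha)))
    (g : ↥(Mt X) ⧸ NE X)
  have hk' : Nat.card (MulAction.orbit (PP X) (g : ↥(Mt X) ⧸ NE X)) = 2 ^ k := hk
  have hk2 : k ≤ 2 := by
    by_contra hc
    have h' : (8 : ℕ) ≤ 2 ^ k := (Nat.pow_le_pow_right two_pos (show 3 ≤ k by omega))
    omega
  set x : ↥(Mt X) ⧸ NE X := (g : ↥(Mt X) ⧸ NE X)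
  let a : Cfsg.GolayPt → ↥(Mt X) := fun p => ⟨X.L.lab ptC p, A0_le_Mt X (X.lab_A0 _ _)⟩
  refine mem_A0_of_classes X ?_ ?_ (fun p => a p • x) (MulAction.orbit (PP X) x).toFinset ?_ ?_ ?_
  · rw [Thom.conj_mul, X.lab_mul_self, mul_one, mul_inv_cancel]
  · refine (((mem_Mt X).1 g.2).mul_left ?_).mul_left ((mem_Mt X).1 g.2).inv_left
    exact X.comm (X.lab_A0 _ _) (X.lab_A0 _ _)
  · rw [← Set.ncard_eq_toFinset_card', ← Nat.card_coe_set_eq, hk']
    exact (Nat.pow_le_pow_right two_pos hk2).trans le_rfl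
  · exact fun p => Set.mem_toFinset.2 ⟨⟨a p, mem_subgroupOf.2 (X.lab_A0 _ _)⟩, rfl⟩
  · intro p q e
    have e' : (a p * a q) • x = x := by
      have h2 : a p * a p = 1 := Subtype.ext (X.lab_mul_self _ _)
      rw [mul_smul, ← (e : a p • x = a q • x), ← mul_smul, h2, one_smul]
    have := (smul_mk X).1 e'
    rwa [show ((a p * a q : ↥(Mt X)) : G) = X.L.lab p q by
      show X.L.lab ptC p * X.L.lab ptC q = _
      rw [X.L.symm ptC p, X.L.trans]] at this

/-- A fixed position is given by a point. -/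
theorem fixed_label (g : ↥(Mt X)) (hA : (g : G) * ee X * (g : G)⁻¹ ∈ A0 D) :
    ∃ x, x ≠ ptA ∧ x ≠ ptB ∧ ((g : G) * ee X * (g : G)⁻¹ = X.L.lab ptB x ∨
      (g : G) * ee X * (g : G)⁻¹ = tt X * X.L.lab ptB x) := by
  obtain ⟨nab, nbc, nac⟩ := abc_ne
  set d := (g : G) * ee X * (g : G)⁻¹ with hd
  obtain ⟨-, he1, hez⟩ := (mem_nS D).1 (X.L.mem _ _ nbc)
  have hd1 : d ≠ 1 := fun e => he1 (conj_eq_one_iff.1 e)
  have hdz : ¬ IsConj z d := fun e => hez ((conj_z_conj _ _).1 e)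
  have htd : ¬ IsConj z (tt X * d) := by
    rw [hd, ← Mt_tee X g.2, tee, conj_z_conj]
    exact ((mem_nS D).1 (X.L.mem _ _ nac)).2.2
  have hdt : d ≠ tt X := fun e => by
    have e2 : (g : G) * tt X * (g : G)⁻¹ = tt X := by rw [((mem_Mt X).1 g.2).eq, mul_inv_cancel_right]
    have h := mul_left_cancel (mul_right_cancel (e.trans e2.symm))
    refine ((mem_nS D).1 (X.L.mem _ _ nac)).2.1 ?_
    rw [← tee, show ee X = tt X from h, X.lab_mul_self]
  obtain ⟨p, q, hpq, e⟩ := X.L.exists_pair d ((mem_nS D).2 ⟨hA, hd1, hdz⟩)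
  by_cases hp : p = ptA
  · subst hp
    refine ⟨q, hpq.symm, fun h => hdt (e.symm.trans (by rw [h])), Or.inr ?_⟩
    rw [← e, tt, X.L.trans]
  by_cases hpB : p = ptB
  · subst hpB
    exact ⟨q, fun h => hdt (e.symm.trans (by rw [h, X.L.symm])), hpq.symm, Or.inl e.symm⟩
  by_cases hq : q = ptA
  · subst hq
    exact ⟨p, hp, hpB, Or.inr (by rw [← e, tt, X.L.trans, X.L.symm])⟩
  by_cases hqB : q = ptB
  · subst hqB
    exact ⟨p, hp, hpB, Or.inl (by rw [← e, X.L.symm])⟩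
  refine absurd (X.four_z ?_) (e ▸ htd)
  simp [Finset.card_insert_of_notMem, nab, Ne.symm hp, Ne.symm hpB, Ne.symm hq, Ne.symm hqB, hpq]

/-- The element of the normaliser over a permutation fixing the first two points. -/
theorem exists_perm {π : Cfsg.M24} (hA : (π : Equiv.Perm Cfsg.GolayPt) ptA = ptA)
    (hB : (π : Equiv.Perm Cfsg.GolayPt) ptB = ptB) :
    ∃ h ∈ Mt X, ∀ p q, h * X.L.lab p q * h⁻¹ =
      X.L.lab ((π : Equiv.Perm Cfsg.GolayPt) p) ((π : Equiv.Perm Cfsg.GolayPt) q) := by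
  obtain ⟨m, rfl⟩ := X.L.surj π
  refine ⟨m, (mem_Mt X).2 (mul_inv_eq_iff_eq_mul.1 ?_), X.L.conj m⟩
  rw [X.L.conj, hA, hB]

theorem exists_rep_point {x : Cfsg.GolayPt} (hxA : x ≠ ptA) (hxB : x ≠ ptB) :
    ∃ g : ↥(Mt X), (g : G) * ee X * (g : G)⁻¹ = X.L.lab ptB x := by
  obtain ⟨nab, nbc, nac⟩ := abc_ne
  obtain ⟨π, a, b, c⟩ : ∃ π : Cfsg.M24, (π : Equiv.Perm Cfsg.GolayPt) ptA = ptA ∧
      (π : Equiv.Perm Cfsg.GolayPt) ptB = ptB ∧ (π : Equiv.Perm Cfsg.GolayPt) ptC = x := by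
    obtain ⟨g1, a1, b1, c1⟩ := move_three ptA ptB x nab hxB.symm hxA.symm
    refine ⟨g1⁻¹, ?_, ?_, ?_⟩ <;>
      (show (g1 : Equiv.Perm Cfsg.GolayPt)⁻¹ _ = _; rw [Equiv.Perm.inv_eq_iff_eq])
    exacts [a1.symm, b1.symm, c1.symm]
  obtain ⟨h, hh, hl⟩ := exists_perm X a b
  exact ⟨⟨h, hh⟩, by rw [show ee X = X.L.lab ptB ptC from rfl]; exact (hl _ _).trans (by rw [b, c])⟩

theorem lab_B_inj {x y : Cfsg.GolayPt} (hxA : x ≠ ptA) (hxB : x ≠ ptB) (hyA : y ≠ ptA) (hyB : y ≠ ptB)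
    (h : X.L.lab ptB y = X.L.lab ptB x ∨ X.L.lab ptB y = tt X * X.L.lab ptB x) : x = y := by
  obtain ⟨nab, -, -⟩ := abc_ne
  by_contra hne
  rcases h with h | h
  · refine ((mem_nS D).1 (X.L.mem x y hne)).2.1 ?_
    rw [← X.L.trans x ptB y, h, X.L.symm x ptB, X.lab_mul_self]
  · rw [tt, X.L.trans] at h
    refine not_conj_one D ?_
    rw [← X.lab_mul_self ptA x]
    nth_rw 1 [← h]
    exact X.four_z (by simp [Finset.card_insert_of_notMem, nab.symm, hyA, hyB.symm, hne, Ne.symm hne, hxB.symm,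
      hxA.symm])

/-- The sign of the action on the conjugates of the second involution. -/
noncomputable def eps : ↥(Mt X) →* ℤˣ :=
  letI : Fintype (↥(Mt X) ⧸ NE X) := Fintype.ofFinite _
  letI : DecidableEq (↥(Mt X) ⧸ NE X) := Classical.decEq _
  Equiv.Perm.sign.comp (MulAction.toPermHom ↥(Mt X) (↥(Mt X) ⧸ NE X))

/-- An involution of the normaliser exchanging the first two points has sign minus one. -/
theorem eps_swap {s : G} (hsM : s ∈ Mt X) (hs2 : s * s = 1) {σ : Cfsg.M24}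
    (hlab : ∀ p q, s * X.L.lab p q * s⁻¹ =
      X.L.lab ((σ : Equiv.Perm Cfsg.GolayPt) p) ((σ : Equiv.Perm Cfsg.GolayPt) q))
    (hσ2 : σ * σ = 1) (hA : (σ : Equiv.Perm Cfsg.GolayPt) ptA = ptB) (hn : s ∈ normalizer (A0 D : Set G)) :
    eps X ⟨s, hsM⟩ = -1 := by
  classical
  letI : Fintype (↥(Mt X) ⧸ NE X) := Fintype.ofFinite _
  obtain ⟨nab, -, -⟩ := abc_ne
  set s' : ↥(Mt X) := ⟨s, hsM⟩
  have hs' : s' * s' = 1 := Subtype.ext hs2
  set π : Equiv.Perm Cfsg.GolayPt := (σ : Equiv.Perm Cfsg.GolayPt)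
  have hπ : π * π = 1 := congrArg Subtype.val hσ2
  have hπ' : ∀ p, π (π p) = p := fun p => DFunLike.congr_fun hπ p
  have hB : π ptB = ptA := by rw [← hA, hπ']
  have hmod := moved_mod_four (Ω := ↥(Mt X) ⧸ NE X) (PP X) (s := s')
    (fun a ha => Subtype.ext (X.sq (mem_subgroupOf.1 ha)))
    (fun a ha b hb => Subtype.ext (X.comm (mem_subgroupOf.1 ha) (mem_subgroupOf.1 hb)).eq) hs'
    (fun a ha => mem_subgroupOf.2 (by
      show s * a * s ∈ A0 D
      have := (mem_normalizer_iff.1 hn a).1 (mem_subgroupOf.1 ha)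
      rwa [inv_eq_of_mul_eq_one_right hs2] at this))
    (fun x => by
      obtain ⟨g, rfl⟩ := QuotientGroup.mk_surjective x
      by_cases h : Nat.card (MulAction.orbit (PP X) (g : ↥(Mt X) ⧸ NE X)) < 8
      · left
        intro a ha
        refine (smul_mk X).2 (Or.inl ?_)
        rw [(X.comm (mem_subgroupOf.1 ha) (small_orbit X g h)).eq, mul_inv_cancel_right]
      · exact Or.inr (Nat.le_of_not_lt h))
  choose rep hrep using fun x : {x : Cfsg.GolayPt // x ≠ ptA ∧ x ≠ ptB} => exists_rep_point X x.2.1 x.2.2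
  set pos := fun x => (rep x : ↥(Mt X) ⧸ NE X)
  have hpi : ∀ x : {x : Cfsg.GolayPt // x ≠ ptA ∧ x ≠ ptB}, π x ≠ ptA ∧ π x ≠ ptB := fun x =>
    ⟨fun e => x.2.2 (π.injective (e.trans hB.symm)), fun e => x.2.1 (π.injective (e.trans hA.symm))⟩
  have hmove : ∀ x, s' • pos x = pos ⟨π x, hpi x⟩ := by
    intro x
    refine (mk_eq_mk X (g := s' * rep x) (h := rep ⟨π x, hpi x⟩)).2 (Or.inr ?_)
    rw [show ((s' * rep x : ↥(Mt X)) : G) * ee X * ((s' * rep x : ↥(Mt X)) : G)⁻¹ =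
      s * ((rep x : G) * ee X * (rep x : G)⁻¹) * s⁻¹ by simp [s', mul_assoc], hrep, hrep, hlab]
    show X.L.lab ptB (π x) = tt X * X.L.lab (π ptB) (π x)
    rw [hB, tt, X.L.symm ptA ptB, X.L.trans]
  have hinj : Function.Injective pos := fun x y e => by
    have h := (mk_eq_mk X).1 e
    rw [hrep, hrep] at h
    exact Subtype.ext (lab_B_inj X x.2.1 x.2.2 y.2.1 y.2.2 h)
  have hbij : Nat.card {x : {x : Cfsg.GolayPt // x ≠ ptA ∧ x ≠ ptB} // π x ≠ x} =
      Nat.card {x : ↥(Mt X) ⧸ NE X // (∀ a ∈ PP X, a • x = x) ∧ s' • x ≠ x} := by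
    refine Nat.card_eq_of_bijective (fun x => ⟨pos x.1, fun a ha => ?_, fun e => ?_⟩) ⟨?_, ?_⟩
    · refine (smul_mk X).2 (Or.inl ?_)
      rw [hrep, (X.comm (mem_subgroupOf.1 ha) (X.lab_A0 _ _)).eq, mul_inv_cancel_right]
    · rw [hmove] at e
      exact x.2 (congrArg Subtype.val (hinj e))
    · intro x y e
      exact Subtype.ext (hinj (congrArg Subtype.val e))
    · rintro ⟨q, hq, hqs⟩
      obtain ⟨g, rfl⟩ := QuotientGroup.mk_surjective q
      have hsm : Nat.card (MulAction.orbit (PP X) (g : ↥(Mt X) ⧸ NE X)) < 8 := by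
        have he : MulAction.orbit (PP X) (g : ↥(Mt X) ⧸ NE X) = {(g : ↥(Mt X) ⧸ NE X)} := Set.eq_singleton_iff_unique_mem.2
          ⟨MulAction.mem_orbit_self _, by rintro _ ⟨a, rfl⟩; exact hq a.1 a.2⟩
        rw [Nat.card_coe_set_eq, he, Set.ncard_singleton]
        norm_num
      obtain ⟨x, hxA, hxB, hx⟩ := fixed_label X g (small_orbit X g hsm)
      have e : pos ⟨x, hxA, hxB⟩ = (g : ↥(Mt X) ⧸ NE X) := by
        refine (mk_eq_mk X).2 ?_
        rw [hrep]
        exact hx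
      refine ⟨⟨⟨x, hxA, hxB⟩, fun h => hqs ?_⟩, Subtype.ext e⟩
      rw [← e, hmove]
      exact congrArg pos (Subtype.ext h)
  rw [← hbij] at hmod
  have hcount : Nat.card {x : {x : Cfsg.GolayPt // x ≠ ptA ∧ x ≠ ptB} // π x ≠ x} = π.support.card - 2 := by
    rw [Nat.card_congr (Equiv.subtypeSubtypeEquivSubtypeInter (fun x => x ≠ ptA ∧ x ≠ ptB) fun x => π x ≠ x),
      Nat.card_eq_fintype_card, Fintype.card_subtype,
      show (Finset.univ.filter fun x => (x ≠ ptA ∧ x ≠ ptB) ∧ π x ≠ x) = (π.support.erase ptA).erase ptB by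
        ext x; simp [Equiv.Perm.mem_support]; tauto,
      Finset.card_erase_of_mem (Finset.mem_erase.2 ⟨nab.symm, Equiv.Perm.mem_support.2 (by rw [hB]; exact nab)⟩),
      Finset.card_erase_of_mem (Equiv.Perm.mem_support.2 (by rw [hA]; exact nab.symm))]
    rfl
  have h2 : 2 ≤ π.support.card := by
    have : ({ptA, ptB} : Finset Cfsg.GolayPt) ⊆ π.support := by
      simp [Finset.insert_subset_iff, Equiv.Perm.mem_support, hA, hB, nab, nab.symm]
    have := Finset.card_le_card this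
    rwa [Finset.card_pair nab] at this
  have h4 : π.support.card % 4 = 0 := by
    have h := sign_invol hπ
    rw [M24_sign] at h
    have he := even_support hπ
    rcases Nat.even_or_odd (π.support.card / 2) with e | e
    · obtain ⟨j, hj⟩ := e; omega
    · rw [e.neg_one_pow] at h; exact absurd h (by decide)
  rw [hcount] at hmod
  have hsq : MulAction.toPermHom ↥(Mt X) (↥(Mt X) ⧸ NE X) s' * MulAction.toPermHom _ _ s' = 1 := by
    rw [← map_mul, hs', map_one]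
  have he := even_support hsq
  have hsign := sign_invol hsq
  have hodd : Odd ((MulAction.toPermHom ↥(Mt X) (↥(Mt X) ⧸ NE X) s').support.card / 2) := by
    rw [Nat.odd_iff]; omega
  rw [hodd.neg_one_pow] at hsign
  rw [← hsign, eps, MonoidHom.comp_apply]
  congr!

theorem eps_C {g : G} (hg : g ∈ X.C) : eps X ⟨g, C_le_Mt X hg⟩ = 1 := by
  have h : commutator ↥X.C ≤ ((eps X).comp (Subgroup.inclusion (C_le_Mt X))).ker :=
    Abelianization.commutator_subset_ker _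
  rw [X.quasisimple.1.commutator_eq_top] at h
  exact h (mem_top ⟨g, hg⟩)

/-- Elements commuting with a further involution through the second point are even. -/
theorem eps_of_fix {g : G} (hgM : g ∈ Mt X) {y : Cfsg.GolayPt} (hyA : y ≠ ptA) (hyB : y ≠ ptB)
    (hg : Commute g (X.L.lab ptB y)) : eps X ⟨g, hgM⟩ = 1 := by
  obtain ⟨h, hh⟩ := exists_rep_point X hyA hyB
  have hc : Commute ((h⁻¹ * ⟨g, hgM⟩ * h : ↥(Mt X)) : G) (ee X) := by
    rw [← ThreeT.commute_conj_iff (h : G), hh]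
    convert hg using 1
    simp [mul_assoc]
  have hC : ((h⁻¹ * ⟨g, hgM⟩ * h : ↥(Mt X)) : G) ∈ X.C := X.mem_C.2 ⟨(mem_Mt X).1 (h⁻¹ * _ * h).2, hc⟩
  have e := eps_C X hC
  rwa [Subtype.coe_eta, map_mul, map_mul, map_inv, mul_comm, ← mul_assoc, mul_inv_cancel, one_mul] at e

/-- An odd element exchanging the second involution with its translate. -/
theorem exists_odd : ∃ w : ↥(Mt X), eps X w = -1 ∧ (w : G) * ee X * (w : G)⁻¹ = tt X * ee X := by
  classical
  obtain ⟨nab, nbc, nac⟩ := abc_ne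
  obtain ⟨v, hv, hvW⟩ := odd_vector
  obtain ⟨q, rfl⟩ := D.π_surj v
  have hq2 : val q * val q = 1 := congrArg (fun u : Q => val u) ((D.sq_iff q).2 hv)
  have hqN : val q ∈ normalizer (A0 D : Set G) :=
    N0_le_normalizer D (QG_le_N0 D (mem_map_of_mem _ q.2))
  have hφ : X.L.φ ⟨val q, hqN⟩ ≠ 1 := fun h => hvW (π_mem_R0 D
    (A0_inf_Q D (c := (q : centralizer ({z} : Set G))) ((X.L.ker _).1 h) q.2))
  obtain ⟨x, hx⟩ : ∃ x, (X.L.φ ⟨val q, hqN⟩ : Equiv.Perm Cfsg.GolayPt) x ≠ x := by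
    by_contra h
    push Not at h
    exact hφ (Subtype.ext (Equiv.ext h))
  haveI := Golay.two_transitive
  obtain ⟨π, hπA, hπB⟩ := (MulAction.is_two_pretransitive_iff (G := Cfsg.M24) (α := Cfsg.GolayPt)).1 inferInstance
    hx nab
  obtain ⟨m, rfl⟩ := X.L.surj π
  set s : ↥(normalizer (A0 D : Set G)) := m * ⟨val q, hqN⟩ * m⁻¹
  have hs2 : s * s = 1 := by
    rw [show s * s = m * (⟨val q, hqN⟩ * ⟨val q, hqN⟩) * m⁻¹ by simp only [s]; group,
      show (⟨val q, hqN⟩ : ↥(normalizer (A0 D : Set G))) * ⟨val q, hqN⟩ = 1 from Subtype.ext hq2, mul_one,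
      mul_inv_cancel]
  set σ := X.L.φ s
  have hσ2 : σ * σ = 1 := by rw [← map_mul, hs2, map_one]
  have hσB : (σ : Equiv.Perm Cfsg.GolayPt) ptB = ptA := by
    have hm : ((X.L.φ m)⁻¹ : Cfsg.M24) • ptB = x := by rw [inv_smul_eq_iff]; exact hπB.symm
    show (X.L.φ (m * ⟨val q, hqN⟩ * m⁻¹)) • ptB = ptA
    rw [map_mul, map_mul, map_inv, mul_smul, mul_smul, hm]
    exact hπA
  have hσA : (σ : Equiv.Perm Cfsg.GolayPt) ptA = ptB := by
    have h1 : σ • σ • ptB = ptB := by rw [← mul_smul, hσ2, one_smul]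
    rw [show σ • ptB = ptA from hσB] at h1
    exact h1
  have hsM : (s : G) ∈ Mt X := (mem_Mt X).2 (mul_inv_eq_iff_eq_mul.1 (by rw [X.L.conj, hσA, hσB, X.L.symm]))
  have hes := eps_swap X hsM (congrArg Subtype.val hs2) (σ := σ) (X.L.conj s) hσ2 hσA s.2
  set x1 := (σ : Equiv.Perm Cfsg.GolayPt) ptC
  have hx1A : x1 ≠ ptA := fun e => nbc ((σ : Equiv.Perm Cfsg.GolayPt).injective (hσB.trans e.symm))
  have hx1B : x1 ≠ ptB := fun e => nac ((σ : Equiv.Perm Cfsg.GolayPt).injective (hσA.trans e.symm))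
  obtain ⟨y, -, hy⟩ := Finset.exists_mem_notMem_of_card_lt_card
    (show ({ptA, ptB, ptC, x1} : Finset Cfsg.GolayPt).card < (Finset.univ : Finset Cfsg.GolayPt).card from
      lt_of_le_of_lt Finset.card_le_four (by rw [Finset.card_univ, Golay.card_golayPt]; norm_num))
  simp only [Finset.mem_insert, Finset.mem_singleton, not_or] at hy
  obtain ⟨π, pA, pB, py, px⟩ := move_four (a := ptA) (b := ptB) (c := y) (e := x1) (a' := ptA) (b' := ptB) (c' := y)
    (e' := ptC) (by simp [nab, Ne.symm hy.1, Ne.symm hy.2.1, hx1A.symm, hx1B.symm, hy.2.2.2])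
    (by simp [nab, Ne.symm hy.1, Ne.symm hy.2.1, nac, nbc, hy.2.2.1])
  obtain ⟨h, hh, hl⟩ := exists_perm X pA pB
  have heh : eps X ⟨h, hh⟩ = 1 := eps_of_fix X hh hy.1 hy.2.1 (mul_inv_eq_iff_eq_mul.1 (by rw [hl, pB, py]))
  refine ⟨⟨h, hh⟩ * ⟨s, hsM⟩, by rw [map_mul, heh, hes, one_mul], ?_⟩
  show h * (s : G) * X.L.lab ptB ptC * (h * (s : G))⁻¹ = _
  rw [show h * (s : G) * X.L.lab ptB ptC * (h * (s : G))⁻¹ =
    h * ((s : G) * X.L.lab ptB ptC * (s : G)⁻¹) * h⁻¹ by group, X.L.conj, hl, hσB, pA]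
  show X.L.lab ptA ((π : Equiv.Perm Cfsg.GolayPt) x1) = _
  rw [px, tee]

/-- The even elements fixing the position of the second involution centralise the four-group. -/
theorem cent_even {g : ↥(Mt X)} (hg : eps X g = 1)
    (h : (g : G) * ee X * (g : G)⁻¹ = ee X ∨ (g : G) * ee X * (g : G)⁻¹ = tt X * ee X) : (g : G) ∈ X.C := by
  refine X.mem_C.2 ⟨(mem_Mt X).1 g.2, ?_⟩
  rcases h with h | h
  · exact mul_inv_eq_iff_eq_mul.1 h
  exfalso
  obtain ⟨w, hw, hwe⟩ := exists_odd X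
  have hc : ((g⁻¹ * w : ↥(Mt X)) : G) ∈ X.C := X.mem_C.2 ⟨(mem_Mt X).1 (g⁻¹ * w).2, mul_inv_eq_iff_eq_mul.1 (by
    rw [show ((g⁻¹ * w : ↥(Mt X)) : G) * ee X * ((g⁻¹ * w : ↥(Mt X)) : G)⁻¹ =
      (g : G)⁻¹ * ((w : G) * ee X * (w : G)⁻¹) * (g : G) by simp [mul_assoc], hwe, ← h]
    group)⟩
  have e := eps_C X hc
  rw [Subtype.coe_eta, map_mul, map_inv, hg, hw, inv_one, one_mul] at e
  exact absurd e (by decide)

theorem index_eps : (eps X).ker.index = 2 := by
  obtain ⟨w, hw, -⟩ := exists_odd X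
  rw [Subgroup.index_ker, show (eps X).range = ⊤ from ?_, Subgroup.card_top, Nat.card_eq_fintype_card,
    Fintype.card_units_int]
  refine eq_top_iff.2 fun u _ => ?_
  rcases Int.units_eq_one_or u with rfl | rfl
  · exact one_mem _
  · exact ⟨w, hw⟩

end CfsgLib.FiLarge.Cent
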