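import Mathlib.GroupTheory.Perm.Cycle.Type
import Mathlib.GroupTheory.GroupAction.Quotient
import Mathlib.GroupTheory.PGroup
import Mathlib.GroupTheory.Index
import Mathlib.Algebra.BigOperators.Group.Finset.Basic

/-!
The parity of an involution normalising an elementary abelian subgroup without small orbits.
-/

set_option autoImplicit false
set_option linter.unusedSectionVars false
set_option linter.style.haveILetI false

namespace CfsgLib.FiLarge.Cent

open MulAction

theorem sign_invol {α : Type*} [Fintype α] [DecidableEq α] {σ : Equiv.Perm α} (h : σ * σ = 1) :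
    Equiv.Perm.sign σ = (-1 : ℤˣ) ^ (σ.support.card / 2) := by
  have h2 : ∀ n ∈ σ.cycleType, n = 2 := fun n hn => le_antisymm
    (Nat.le_of_dvd two_pos ((Equiv.Perm.dvd_of_mem_cycleType hn).trans
      (orderOf_dvd_of_pow_eq_one (by rw [pow_two, h]))))
    (Equiv.Perm.two_le_of_mem_cycleType hn)
  have hrep := Multiset.eq_replicate_card.2 h2
  have hs : σ.support.card = Multiset.card σ.cycleType * 2 := by
    rw [← Equiv.Perm.sum_cycleType, hrep, Multiset.sum_replicate, Multiset.card_replicate, smul_eq_mul]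
  rw [Equiv.Perm.sign_of_cycleType, Equiv.Perm.sum_cycleType, hs, Nat.mul_div_cancel _ two_pos, pow_add, pow_mul,
    Int.units_sq, one_mul]

variable {M : Type*} [Group M] [Finite M] {Ω : Type*} [MulAction M Ω] [Finite Ω] (P : Subgroup M) {s : M}

theorem orbit_card_pow (hP : ∀ a ∈ P, a * a = 1) (x : Ω) : ∃ k, Nat.card (orbit P x) = 2 ^ k := by
  haveI : Fact (Nat.Prime 2) := ⟨Nat.prime_two⟩
  have hp : IsPGroup 2 P := fun a => ⟨1, Subtype.ext (by
    rw [pow_one, SubgroupClass.coe_pow, pow_two]; exact hP a a.2)⟩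
  exact hp.card_orbit x

/-- The fixed points of the involution in an orbit it preserves. -/
theorem fixed_in_orbit (hP : ∀ a ∈ P, a * a = 1) (hc : ∀ a ∈ P, ∀ b ∈ P, Commute a b) (hs : s * s = 1)
    (hn : ∀ a ∈ P, s * a * s ∈ P) {x : Ω} (hx : s • x = x) :
    ∃ k, Nat.card {y : orbit P x // s • (y : Ω) = y} = 2 ^ k ∧
      Nat.card (orbit P x) ≤ (2 ^ k) ^ 2 := by
  haveI : Fact (Nat.Prime 2) := ⟨Nat.prime_two⟩
  haveI : IsMulCommutative P := ⟨⟨fun a b => Subtype.ext (hc a a.2 b b.2).eq⟩⟩
  set S := stabilizer P x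
  haveI : S.Normal := inferInstance
  let θ : P → P := fun a => ⟨s * a * s, hn a a.2⟩
  have hθ : ∀ a : P, ((θ a : P) : M) • x = s • (a : M) • x := fun a => by
    show (s * a * s) • x = _
    rw [mul_smul, mul_smul, hx]
  have hmem : ∀ {a : P}, a ∈ S ↔ (a : M) • x = x := fun {a} => Iff.rfl
  let f : P →* P ⧸ S := MonoidHom.mk' (fun a => QuotientGroup.mk (a * θ a)) fun a b => by
    show _ = ((a * θ a * (b * θ b) : P) : P ⧸ S)
    congr 1
    rw [show θ (a * b) = θ a * θ b from Subtype.ext (by
      show s * (a * b : M) * s = s * a * s * (s * b * s)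
      rw [show s * (a : M) * s * (s * b * s) = s * a * (s * s) * b * s by group, hs]; group)]
    rw [mul_assoc a b, ← mul_assoc b (θ a), show b * θ a = θ a * b from Subtype.ext (hc b b.2 _ (θ a).2).eq]
    group
  have hker : ∀ a : P, a ∈ f.ker ↔ s • (a : M) • x = (a : M) • x := by
    intro a
    rw [MonoidHom.mem_ker, ← hθ]
    show ((a * θ a : P) : P ⧸ S) = 1 ↔ _
    rw [QuotientGroup.eq_one_iff, hmem, Subgroup.coe_mul, mul_smul]
    constructor
    · intro h
      conv_rhs => rw [← h, ← mul_smul, hP a a.2, one_smul]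
    · intro h
      rw [h, ← mul_smul, hP a a.2, one_smul]
  have hSle : S ≤ f.ker := fun a ha => by rw [hker, hmem.1 ha, hx]
  -- the fixed points correspond to the kernel
  have hcard : Nat.card (f.ker.map (QuotientGroup.mk' S)) = Nat.card {y : orbit P x // s • (y : Ω) = y} := by
    refine Nat.card_congr (Equiv.subtypeEquiv (orbitEquivQuotientStabilizer P x).symm fun q => ?_)
    obtain ⟨a, rfl⟩ := QuotientGroup.mk_surjective q
    rw [orbitEquivQuotientStabilizer_symm_apply]
    show (QuotientGroup.mk a : P ⧸ S) ∈ f.ker.map (QuotientGroup.mk' S) ↔ s • (a : M) • x = (a : M) • x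
    rw [← hker]
    constructor
    · rintro ⟨b, hb, e⟩
      have h := hSle (QuotientGroup.eq.1 (e : (b : P ⧸ S) = a))
      rw [show a = b * (b⁻¹ * a) by group]
      exact mul_mem hb h
    · exact fun h => ⟨a, h, rfl⟩
  have hp : IsPGroup 2 P := fun a => ⟨1, Subtype.ext (by
    rw [pow_one, SubgroupClass.coe_pow, pow_two]; exact hP a a.2)⟩
  obtain ⟨k, hk⟩ := ((hp.to_quotient S).to_subgroup (f.ker.map (QuotientGroup.mk' S))).exists_card_eq
  refine ⟨k, by rw [← hcard, hk], ?_⟩
  -- the image lies in the kernel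
  have hrange : f.range ≤ f.ker.map (QuotientGroup.mk' S) := by
    rintro _ ⟨a, rfl⟩
    refine ⟨a * θ a, MonoidHom.mem_ker.2 ?_, rfl⟩
    show ((a * θ a * θ (a * θ a) : P) : P ⧸ S) = 1
    rw [show a * θ a * θ (a * θ a) = 1 from Subtype.ext (by
      show (a : M) * (s * a * s) * (s * (a * (s * a * s)) * s) = 1
      calc (a : M) * (s * a * s) * (s * (a * (s * a * s)) * s)
          = a * s * a * (s * s) * a * s * a * (s * s) := by group
        _ = (a : M) * s * (a * a) * s * a := by rw [hs]; group
        _ = _ := by rw [hP a a.2, mul_one, mul_assoc (a : M) s s, hs, mul_one, hP a a.2])]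
    rfl
  have h1 : Nat.card f.range * Nat.card f.ker = Nat.card P := by
    rw [← Subgroup.index_ker, mul_comm]
    exact f.ker.card_mul_index
  have hpos : 0 < Nat.card S := Nat.card_pos
  have h2 : Nat.card f.ker = Nat.card S * 2 ^ k := by
    rw [← hk]
    let g := (QuotientGroup.mk' S).comp f.ker.subtype
    have e := g.ker.card_mul_index
    rw [Subgroup.index_ker, MonoidHom.range_comp, Subgroup.range_subtype,
      show g.ker = S.subgroupOf f.ker by rw [← MonoidHom.comap_ker, QuotientGroup.ker_mk']; rfl,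
      Nat.card_congr (Subgroup.subgroupOfEquivOfLe hSle).toEquiv] at e
    rw [← e]
  have h3 : Nat.card (orbit P x) * Nat.card S = Nat.card P := by
    rw [Nat.card_congr (orbitEquivQuotientStabilizer P x)]
    exact (Subgroup.card_eq_card_quotient_mul_card_subgroup S).symm
  have h4 : Nat.card f.range ≤ 2 ^ k := hk ▸ Subgroup.card_le_of_le hrange
  refine Nat.le_of_mul_le_mul_right ?_ hpos
  calc Nat.card (orbit P x) * Nat.card S = Nat.card f.range * (Nat.card S * 2 ^ k) := by rw [h3, ← h2, h1]
    _ ≤ 2 ^ k * (Nat.card S * 2 ^ k) := Nat.mul_le_mul_right _ h4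
    _ = _ := by ring

/-- The moved points agree modulo four with those among the fixed points of the subgroup. -/
theorem moved_mod_four [Fintype Ω] [DecidableEq Ω] (hP : ∀ a ∈ P, a * a = 1)
    (hc : ∀ a ∈ P, ∀ b ∈ P, Commute a b) (hs : s * s = 1) (hn : ∀ a ∈ P, s * a * s ∈ P)
    (hbig : ∀ x : Ω, (∀ a ∈ P, a • x = x) ∨ 8 ≤ Nat.card (orbit P x)) :
    (MulAction.toPermHom M Ω s).support.card % 4 =
      Nat.card {x : Ω // (∀ a ∈ P, a • x = x) ∧ s • x ≠ x} % 4 := by
  classical
  set F : Finset Ω := Finset.univ.filter fun x => ∀ a ∈ P, a • x = x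
  have hsupp : (MulAction.toPermHom M Ω s).support = Finset.univ.filter fun x => s • x ≠ x := by
    ext x; simp [Equiv.Perm.mem_support]
  have hF : Nat.card {x : Ω // (∀ a ∈ P, a • x = x) ∧ s • x ≠ x} = (F.filter fun x => s • x ≠ x).card := by
    rw [Nat.card_eq_fintype_card, Fintype.card_subtype, Finset.filter_filter]
  rw [hsupp, hF]
  set R : Finset Ω := Finset.univ.filter fun x => ¬ ∀ a ∈ P, a • x = x
  have hsplit : (Finset.univ.filter fun x : Ω => s • x ≠ x).card =
      (F.filter fun x => s • x ≠ x).card + (R.filter fun x => s • x ≠ x).card := by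
    rw [← Finset.card_filter_add_card_filter_not (s := Finset.univ.filter fun x => s • x ≠ x)
      (fun x : Ω => ∀ a ∈ P, a • x = x), Finset.filter_filter, Finset.filter_filter]
    congr 1 <;> (congr 1; ext x; simp [F, R, and_comm])
  have hR : ∀ x, x ∈ R ↔ ¬ ∀ a ∈ P, a • x = x := fun x => by simp [R]
  let q : Ω → orbitRel.Quotient P Ω := Quotient.mk''
  have hq : ∀ {x y : Ω}, q y = q x ↔ y ∈ orbit P x := fun {x y} => Quotient.eq''
  have hall : ∀ {x}, x ∈ R → ∀ {y}, y ∈ orbit P x → y ∈ R := fun {x} hx {y} hy => by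
    obtain ⟨⟨b, hb⟩, rfl⟩ := hy
    rw [hR] at hx ⊢
    refine fun h => hx fun a ha => ?_
    have h1 := h a ha
    show a • x = x
    have h2 : a • b • x = b • x := h1
    rw [← mul_smul, (hc a ha b hb).eq, mul_smul] at h2
    exact MulAction.injective b h2
  -- each orbit is divisible by four, and so are its fixed points
  have d1 : 4 ∣ R.card := by
    rw [Finset.card_eq_sum_card_image q R]
    refine Finset.dvd_sum fun o ho => ?_
    obtain ⟨x, hx, rfl⟩ := Finset.mem_image.1 ho
    have e : (R.filter fun y => q y = q x) = (orbit P x).toFinset := by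
      ext y
      simp only [Finset.mem_filter, Set.mem_toFinset, hq]
      exact ⟨fun h => h.2, fun h => ⟨hall hx h, h⟩⟩
    rw [e, ← Set.ncard_eq_toFinset_card', ← Nat.card_coe_set_eq]
    obtain ⟨k, hk⟩ := orbit_card_pow P hP x
    have := (hbig x).resolve_left ((hR x).1 hx)
    rw [hk] at this ⊢
    have : 2 < k + 1 := Nat.lt_succ_of_le ((Nat.pow_le_pow_iff_right (a := 2) (by norm_num)).1 (by omega))
    exact (pow_dvd_pow 2 (by omega) : 2 ^ 2 ∣ 2 ^ k)
  have d2 : 4 ∣ (R.filter fun x => s • x = x).card := by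
    rw [Finset.card_eq_sum_card_image q _]
    refine Finset.dvd_sum fun o ho => ?_
    obtain ⟨x, hx, rfl⟩ := Finset.mem_image.1 ho
    obtain ⟨hxR, hxs⟩ := Finset.mem_filter.1 hx
    have e : ((R.filter fun y => s • y = y).filter fun y => q y = q x).card =
        Nat.card {y : orbit P x // s • (y : Ω) = y} := by
      rw [Nat.card_congr (Equiv.subtypeSubtypeEquivSubtypeInter (fun y => y ∈ orbit P x) fun y => s • y = y),
        Nat.card_eq_fintype_card, Fintype.card_subtype, Finset.filter_filter]
      congr 1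
      ext y
      simp only [Finset.mem_filter, Finset.mem_univ, true_and, hq]
      exact ⟨fun h => ⟨h.2.2, h.2.1⟩, fun h => ⟨hall hxR h.1, h.2, h.1⟩⟩
    obtain ⟨k, hk, hle⟩ := fixed_in_orbit P hP hc hs hn hxs
    rw [e, hk]
    have h8 := ((hbig x).resolve_left ((hR x).1 hxR)).trans hle
    have : 2 ≤ k := by
      by_contra h
      interval_cases k <;> norm_num at h8
    exact (pow_dvd_pow 2 this : 2 ^ 2 ∣ 2 ^ k)
  have hR2 : (R.filter fun x => s • x = x).card + (R.filter fun x => s • x ≠ x).card = R.card := by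
    have hd : Disjoint (R.filter fun x => s • x = x) (R.filter fun x => s • x ≠ x) :=
      Finset.disjoint_left.2 fun x h1 h2 => (Finset.mem_filter.1 h2).2 (Finset.mem_filter.1 h1).2
    rw [← Finset.card_union_of_disjoint hd]
    congr 1
    ext x
    simp only [Finset.mem_union, Finset.mem_filter]
    tauto
  rw [hsplit]
  omega

end CfsgLib.FiLarge.Cent
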